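import Mathlib
import Cfsg.Prelude.Def_Solvable

set_option autoImplicit false

namespace Cfsg.Agent.Lib.Helper15

open Pointwise

variable {G : Type*} [Group G] {H : Subgroup G}

theorem mem_conj_smul_iff {g x : G} {H : Subgroup G} :
    x ∈ MulAut.conj g • H ↔ g⁻¹ * x * g ∈ H := by
  rw [Subgroup.mem_pointwise_smul_iff_inv_smul_mem]
  simp [MulAut.smul_def, ← map_inv]

/-- The basic TI property in element form. -/
theorem frob_mem_of_conj_mem (hH : Cfsg.IsFrobeniusComplement H) {h g : G} (hh : h ∈ H)
    (h1 : h ≠ 1) (hg : g⁻¹ * h * g ∈ H) : g ∈ H := by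
  by_contra hgn
  have h2 := hH.2.2 g hgn
  have hmem : h ∈ H ⊓ MulAut.conj g • H := ⟨hh, mem_conj_smul_iff.mpr hg⟩
  rw [h2] at hmem
  exact h1 hmem

theorem frob_mem_of_conj_mem' (hH : Cfsg.IsFrobeniusComplement H) {h g : G} (hh : h ∈ H)
    (h1 : h ≠ 1) (hg : g * h * g⁻¹ ∈ H) : g ∈ H := by
  have := frob_mem_of_conj_mem hH (g := g⁻¹) hh h1 (by simpa using hg)
  simpa using this

theorem mem_frobeniusKernel_iff {x : G} :
    x ∈ Cfsg.frobeniusKernel H ↔ x = 1 ∨ ∀ g : G, g⁻¹ * x * g ∉ H := by
  unfold Cfsg.frobeniusKernel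
  simp only [Set.mem_setOf_eq, mem_conj_smul_iff]

theorem not_mem_frobeniusKernel_iff {x : G} :
    x ∉ Cfsg.frobeniusKernel H ↔ x ≠ 1 ∧ ∃ g : G, g⁻¹ * x * g ∈ H := by
  rw [mem_frobeniusKernel_iff]
  push Not
  rfl

theorem one_mem_frobeniusKernel : (1 : G) ∈ Cfsg.frobeniusKernel H := Or.inl rfl

theorem conj_mem_frobeniusKernel {x : G} (hx : x ∈ Cfsg.frobeniusKernel H) (g : G) :
    g * x * g⁻¹ ∈ Cfsg.frobeniusKernel H := by
  rw [mem_frobeniusKernel_iff] at hx ⊢
  rcases hx with rfl | hx
  · left; simp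
  · right
    intro y
    have := hx (g⁻¹ * y)
    convert this using 1
    simp only [mul_inv_rev, inv_inv]
    congr 1
    group

theorem inv_mem_frobeniusKernel {x : G} (hx : x ∈ Cfsg.frobeniusKernel H) :
    x⁻¹ ∈ Cfsg.frobeniusKernel H := by
  rw [mem_frobeniusKernel_iff] at hx ⊢
  rcases hx with rfl | hx
  · left; simp
  · right
    intro y hy
    apply hx y
    have := H.inv_mem hy
    convert this using 1
    group

theorem eq_one_of_mem_frobeniusKernel_of_mem {x : G} (hx : x ∈ Cfsg.frobeniusKernel H)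
    (hxH : x ∈ H) : x = 1 := by
  rw [mem_frobeniusKernel_iff] at hx
  rcases hx with rfl | hx
  · rfl
  · exact absurd (by simpa using hxH) (hx 1)

/-- The nonidentity elements outside the kernel are parametrised by cosets and nonidentity
elements of `H`. -/
noncomputable def frobEquiv (hH : Cfsg.IsFrobeniusComplement H) :
    (G ⧸ H) × {h : H // h ≠ 1} ≃ {x : G // x ∉ Cfsg.frobeniusKernel H} :=
  Equiv.ofBijective
    (fun qh => ⟨qh.1.out * (qh.2 : H) * qh.1.out⁻¹, by
      rw [not_mem_frobeniusKernel_iff]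
      refine ⟨?_, qh.1.out, ?_⟩
      · intro h
        apply qh.2.2
        have : ((qh.2 : H) : G) = 1 := by
          have h2 : ((qh.2 : H) : G) = qh.1.out⁻¹ * (qh.1.out * (qh.2 : H) * qh.1.out⁻¹) * qh.1.out := by
            group
          rw [h2, h]; group
        exact Subtype.ext this
      · have : qh.1.out⁻¹ * (qh.1.out * ((qh.2 : H) : G) * qh.1.out⁻¹) * qh.1.out = (qh.2 : H) := by
          group
        rw [this]; exact (qh.2 : H).2⟩)
    (by
      constructor
      · rintro ⟨q, ⟨h, hh⟩⟩ ⟨q', ⟨h', hh'⟩⟩ he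
        have he' : q.out * (h : G) * q.out⁻¹ = q'.out * (h' : G) * q'.out⁻¹ := congrArg Subtype.val he
        have h1 : (h : G) ≠ 1 := fun e => hh (Subtype.ext e)
        have h2 : (q.out⁻¹ * q'.out)⁻¹ * (h : G) * (q.out⁻¹ * q'.out) ∈ H := by
          have : (q.out⁻¹ * q'.out)⁻¹ * (h : G) * (q.out⁻¹ * q'.out)
              = q'.out⁻¹ * (q.out * (h : G) * q.out⁻¹) * q'.out := by group
          rw [this, he']
          have : q'.out⁻¹ * (q'.out * (h' : G) * q'.out⁻¹) * q'.out = h' := by group
          rw [this]; exact h'.2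
        have h3 := frob_mem_of_conj_mem hH h.2 h1 h2
        have h4 : q = q' := by
          rw [← QuotientGroup.out_eq' q, ← QuotientGroup.out_eq' q']
          exact QuotientGroup.eq.mpr h3
        subst h4
        have h5 : (h : G) = h' := by
          have := congrArg (fun z => q.out⁻¹ * z * q.out) he'
          simpa [mul_assoc] using this
        have h6 : h = h' := Subtype.ext h5
        subst h6
        rfl
      · rintro ⟨x, hx⟩
        rw [not_mem_frobeniusKernel_iff] at hx
        obtain ⟨hx1, g, hg⟩ := hx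
        obtain ⟨h₀, hh₀⟩ := QuotientGroup.mk_out_eq_mul H g
        have hmem : (QuotientGroup.mk g : G ⧸ H).out⁻¹ * x * (QuotientGroup.mk g : G ⧸ H).out ∈ H := by
          rw [hh₀]
          have : (g * (h₀ : G))⁻¹ * x * (g * h₀) = (h₀ : G)⁻¹ * (g⁻¹ * x * g) * h₀ := by group
          rw [this]
          exact H.mul_mem (H.mul_mem (H.inv_mem h₀.2) hg) h₀.2
        refine ⟨⟨QuotientGroup.mk g, ⟨⟨_, hmem⟩, ?_⟩⟩, ?_⟩
        · intro h
          apply hx1
          have h' := congrArg Subtype.val h
          simp only [Subgroup.coe_one] at h'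
          have : x = (QuotientGroup.mk g : G ⧸ H).out * ((QuotientGroup.mk g : G ⧸ H).out⁻¹ * x * (QuotientGroup.mk g : G ⧸ H).out) * (QuotientGroup.mk g : G ⧸ H).out⁻¹ := by group
          rw [this, h']; group
        · apply Subtype.ext
          simp only
          group)

theorem card_frobeniusKernel [Finite G] (hH : Cfsg.IsFrobeniusComplement H) :
    Nat.card (Cfsg.frobeniusKernel H) = H.index := by
  classical
  have h1 := Nat.card_congr (frobEquiv hH)
  rw [Nat.card_prod] at h1
  have h2 : Nat.card {h : H // h ≠ 1} + 1 = Nat.card H := by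
    have := Nat.card_congr (Equiv.sumCompl (fun h : H => h ≠ 1))
    rw [Nat.card_sum] at this
    rw [← this]
    congr 1
    have : Nat.card {h : H // ¬ h ≠ 1} = Nat.card ({1} : Set H) := by
      apply Nat.card_congr
      exact Equiv.subtypeEquivRight (by simp)
    rw [this]; simp
  have h3 : Nat.card {x : G // x ∈ Cfsg.frobeniusKernel H} + Nat.card {x : G // x ∉ Cfsg.frobeniusKernel H} = Nat.card G := by
    have := Nat.card_congr (Equiv.sumCompl (fun x : G => x ∈ Cfsg.frobeniusKernel H))
    rw [Nat.card_sum] at this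
    exact this
  have h4 : H.index * Nat.card H = Nat.card G := H.index_mul_card
  have h5 : Nat.card (G ⧸ H) = H.index := rfl
  rw [h5] at h1
  have h6 : Nat.card (Cfsg.frobeniusKernel H) = Nat.card {x : G // x ∈ Cfsg.frobeniusKernel H} := rfl
  rw [h6]
  rw [← h1, ← h4, ← h2] at h3
  nlinarith

theorem frob_index_mod [Finite G] (hH : Cfsg.IsFrobeniusComplement H) :
    H.index % Nat.card H = 1 % Nat.card H := by
  classical
  let S : SubMulAction H (G ⧸ H) :=
    { carrier := {q | q ≠ QuotientGroup.mk 1}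
      smul_mem' := by
        intro h q hq hh
        apply hq
        have : q = h⁻¹ • (h • q) := by simp
        rw [this, hh]
        change (QuotientGroup.mk ((h⁻¹ : H) * 1 : G) : G ⧸ H) = _
        rw [QuotientGroup.eq]
        simp }
  have hfree : ∀ s : S, MulAction.stabilizer H s = ⊥ := by
    rintro ⟨q, hq⟩
    rw [eq_bot_iff]
    intro h hh
    rw [MulAction.mem_stabilizer_iff] at hh
    have hh' : h • q = q := congrArg Subtype.val hh
    by_contra h1
    apply hq
    induction q using QuotientGroup.induction_on with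
    | H g =>
      have h2 : (QuotientGroup.mk ((h : G) * g) : G ⧸ H) = QuotientGroup.mk g := hh'
      rw [QuotientGroup.eq] at h2
      have h3 : g⁻¹ * (h : G)⁻¹ * g ∈ H := by
        convert h2 using 1; group
      have h4 : (h : G)⁻¹ ≠ 1 := by
        intro e
        apply h1
        rw [Subgroup.mem_bot]
        exact Subtype.ext (by simpa using e)
      have h5 := frob_mem_of_conj_mem hH (H.inv_mem h.2) h4 h3
      rw [QuotientGroup.eq]
      simpa using h5
  have e := MulAction.selfEquivOrbitsQuotientProd hfree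
  have h1 : Nat.card S = Nat.card (Quotient (MulAction.orbitRel H S)) * Nat.card H := by
    rw [Nat.card_congr e, Nat.card_prod]
  have h2 : Nat.card S + 1 = H.index := by
    have := Nat.card_congr (Equiv.sumCompl (fun q : G ⧸ H => q ≠ QuotientGroup.mk 1))
    rw [Nat.card_sum] at this
    have h5 : Nat.card (G ⧸ H) = H.index := rfl
    rw [← h5, ← this]
    congr 1
    have : Nat.card {q : G ⧸ H // ¬ q ≠ QuotientGroup.mk 1} = Nat.card ({QuotientGroup.mk 1} : Set (G ⧸ H)) := by
      apply Nat.card_congr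
      exact Equiv.subtypeEquivRight (by simp)
    rw [this]; simp
  rw [← h2, h1, add_comm, Nat.add_mul_mod_self_right]

end Cfsg.Agent.Lib.Helper15
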