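import Mathlib
import Cfsg.Prelude.Def_Solvable
import Cfsg.Prelude.Def_Characters
import Cfsg.Agent.Lib.Helper15.Frob
import Cfsg.Agent.Lib.Helper2.CharInd
import Cfsg.Agent.Lib.Helper2.CharKer
import Cfsg.Agent.Lib.Helper2.CharMore

set_option autoImplicit false

namespace Cfsg.Agent.Lib.Helper15

open Pointwise
open scoped ComplexConjugate
open Cfsg.Agent.Lib.Helper2

universe u
variable {G : Type u} [Group G] {H : Subgroup G}

/-- induced class function at a nonidentity element of a Frobenius complement -/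
theorem frob_indFun_coe [Fintype G] (hH : Cfsg.IsFrobeniusComplement H) (ψ : H → ℂ)
    (hψ : Cfsg.IsClassFunction H ψ) (h : H) (h1 : h ≠ 1) :
    Cfsg.indFun H ψ h = ψ h := by
  classical
  rw [indFun_apply]
  have key : ∀ x : G, Cfsg.extendByZero H ψ (x⁻¹ * h * x)
      = Cfsg.extendByZero H (fun _ => ψ h) x := by
    intro x
    by_cases hx : x ∈ H
    · rw [extendByZero_of_mem H _ hx,
        extendByZero_of_mem H ψ (H.mul_mem (H.mul_mem (H.inv_mem hx) h.2) hx)]
      have := hψ h (⟨x, hx⟩ : H)⁻¹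
      rw [← this]
      congr 1
      apply Subtype.ext
      simp
    · rw [extendByZero_of_not_mem H _ hx, extendByZero_of_not_mem]
      intro hmem
      exact hx (frob_mem_of_conj_mem hH h.2 (fun e => h1 (Subtype.ext e)) hmem)
  simp_rw [key]
  rw [sum_extendByZero]
  rw [Finset.sum_const, Finset.card_univ, nsmul_eq_mul, ← Nat.card_eq_fintype_card, ← mul_assoc,
    inv_mul_cancel₀ (card_subgroup_ne_zero H), one_mul]

theorem frob_indFun_kernel [Fintype G] (ψ : H → ℂ) {x : G} (hx : ∀ g : G, g⁻¹ * x * g ∉ H) :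
    Cfsg.indFun H ψ x = 0 := by
  rw [indFun_apply]
  simp [extendByZero_of_not_mem H ψ (hx _)]

theorem frob_exists_extension [Fintype G] (hH : Cfsg.IsFrobeniusComplement H) (θ : H → ℂ)
    (hθ : Cfsg.IsIrrCharacter H θ) :
    ∃ χ : G → ℂ, Cfsg.IsCharacter G χ ∧ (∀ h : H, χ h = θ h) ∧
      (∀ x ∈ Cfsg.frobeniusKernel H, χ x = θ 1) := by
  classical
  by_cases htriv : θ = (fun _ => 1 : H → ℂ)
  · subst htriv
    exact ⟨fun _ => 1, IsCharacter.one, fun _ => rfl, fun _ _ => rfl⟩
  obtain ⟨n, hn, hd⟩ := IsIrrCharacter.apply_one_pos hθ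
  set oH : H → ℂ := fun _ => 1 with hoH
  set oG : G → ℂ := fun _ => 1 with hoG
  set ψ : H → ℂ := θ - (n : ℂ) • oH with hψdef
  set χ : G → ℂ := Cfsg.indFun H ψ + (n : ℂ) • oG with hχdef
  have hoHirr : Cfsg.IsIrrCharacter H oH := IsIrrCharacter.one
  have hoGirr : Cfsg.IsIrrCharacter G oG := IsIrrCharacter.one
  have hψ1 : ψ 1 = 0 := by simp [hψdef, hd, hoH]
  have hψgen : Cfsg.IsGeneralizedCharacter H ψ := by
    apply IsGeneralizedCharacter.sub (IsCharacter.isGeneralizedCharacter (IsIrrCharacter.isCharacter hθ))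
    have := IsGeneralizedCharacter.zsmul (IsCharacter.isGeneralizedCharacter (IsIrrCharacter.isCharacter hoHirr)) (n : ℤ)
    simpa using this
  have hψcl : Cfsg.IsClassFunction H ψ := IsGeneralizedCharacter.isClassFunction hψgen
  have hres : (fun h : H => Cfsg.indFun H ψ h) = ψ := by
    funext h
    by_cases h1 : h = 1
    · subst h1
      rw [Subgroup.coe_one, indFun_one_eq, hψ1, mul_zero]
    · exact frob_indFun_coe hH ψ hψcl h h1
  have hχgen : Cfsg.IsGeneralizedCharacter G χ := by
    apply IsGeneralizedCharacter.add (IsGeneralizedCharacter.ind H hψgen)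
    have := IsGeneralizedCharacter.zsmul (IsCharacter.isGeneralizedCharacter (IsIrrCharacter.isCharacter hoGirr)) (n : ℤ)
    simpa using this
  have hθθ : Cfsg.classInner θ θ = 1 := irr_norm_one hθ
  have hθo : Cfsg.classInner θ oH = 0 := irr_orthogonal hθ hoHirr htriv
  have hoθ : Cfsg.classInner oH θ = 0 := irr_orthogonal hoHirr hθ (Ne.symm htriv)
  have hoo : Cfsg.classInner oH oH = 1 := irr_norm_one hoHirr
  have hooG : Cfsg.classInner oG oG = 1 := irr_norm_one hoGirr
  have hψψ : Cfsg.classInner ψ ψ = 1 + (n : ℂ) * n := by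
    rw [hψdef, classInner_sub_left, classInner_sub_right, classInner_sub_right,
      classInner_smul_left, classInner_smul_right, classInner_smul_right, classInner_smul_left,
      hθθ, hθo, hoθ, hoo]
    simp
  have hψo : Cfsg.classInner ψ oH = - (n : ℂ) := by
    rw [hψdef, classInner_sub_left, classInner_smul_left, hθo, hoo]
    simp
  have hoψ : Cfsg.classInner oH ψ = - (n : ℂ) := by
    rw [hψdef, classInner_sub_right, classInner_smul_right, hoθ, hoo]
    simp
  have h11 : Cfsg.classInner (Cfsg.indFun H ψ) (Cfsg.indFun H ψ) = 1 + (n : ℂ) * n := by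
    rw [frobenius_reciprocity H ψ _ (indFun_isClassFunction H ψ), hres, hψψ]
  have h12 : Cfsg.classInner (Cfsg.indFun H ψ) oG = - (n : ℂ) := by
    rw [frobenius_reciprocity H ψ _ (IsCharacter.isClassFunction (IsIrrCharacter.isCharacter hoGirr))]
    exact hψo
  have h21 : Cfsg.classInner oG (Cfsg.indFun H ψ) = - (n : ℂ) := by
    rw [frobenius_reciprocity' H ψ _ (IsCharacter.isClassFunction (IsIrrCharacter.isCharacter hoGirr))]
    exact hoψ
  have hnorm : Cfsg.classInner χ χ = 1 := by
    rw [hχdef, classInner_add_left, classInner_add_right, classInner_add_right,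
      classInner_smul_left, classInner_smul_left, classInner_smul_right, classInner_smul_right,
      h11, h12, h21, hooG]
    simp
  have hχ1 : χ 1 = n := by
    simp [hχdef, indFun_one_eq, hψ1, hoG]
  obtain ⟨χ', hχ', hor⟩ := IsGeneralizedCharacter.eq_or_neg_of_norm_one hχgen hnorm
  obtain ⟨m, hm, hm1⟩ := IsIrrCharacter.apply_one_pos hχ'
  have hχeq : χ = χ' := by
    rcases hor with h | h
    · exact h
    · exfalso
      have : (n : ℂ) = - (m : ℂ) := by
        rw [← hχ1, h, Pi.neg_apply, hm1]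
      have h2 : ((n + m : ℕ) : ℂ) = 0 := by
        push_cast; rw [this]; ring
      have h3 : n + m = 0 := by exact_mod_cast h2
      omega
  refine ⟨χ, hχeq ▸ IsIrrCharacter.isCharacter hχ', ?_, ?_⟩
  · intro h
    have h2 : Cfsg.indFun H ψ h = ψ h := congrFun hres h
    have h3 : χ h = Cfsg.indFun H ψ h + (n : ℂ) * 1 := rfl
    have h4 : ψ h = θ h - (n : ℂ) * 1 := rfl
    rw [h3, h2, h4]
    ring
  · intro x hx
    rw [mem_frobeniusKernel_iff] at hx
    rcases hx with rfl | hx
    · rw [hχ1, hd]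
    · simp only [hχdef, Pi.add_apply, Pi.smul_apply, frob_indFun_kernel ψ hx, hoG, hd]
      simp

theorem exists_normal_ker_of_isCharacter [Finite G] {χ : G → ℂ} (hχ : Cfsg.IsCharacter G χ) :
    ∃ N : Subgroup G, N.Normal ∧ ∀ g, g ∈ N ↔ χ g = χ 1 := by
  obtain ⟨n, ρ, rfl⟩ := hχ
  refine ⟨(ρ : G →* _).ker, inferInstance, fun g => ?_⟩
  rw [MonoidHom.mem_ker, Representation.char_one, char_eq_finrank_iff]
  rfl

/-- **Frobenius' theorem.** -/
theorem frobenius_theorem [Finite G] (hH : Cfsg.IsFrobeniusComplement H) :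
    ∃ N : Subgroup G, (N : Set G) = Cfsg.frobeniusKernel H ∧ N.Normal ∧
      Subgroup.IsComplement' N H := by
  classical
  have : Fintype G := Fintype.ofFinite G
  have := finite_irrCharacter (G := H)
  have : Fintype (Cfsg.IrrCharacter H) := Fintype.ofFinite _
  choose χ hχ hχH hχK using fun θ : Cfsg.IrrCharacter H => frob_exists_extension hH θ.1 θ.2
  choose N hNn hN using fun θ : Cfsg.IrrCharacter H => exists_normal_ker_of_isCharacter (hχ θ)
  let M : Subgroup G := ⨅ θ, N θ
  have hMn : M.Normal := Subgroup.normal_iInf_normal hNn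
  have hMH : ∀ x ∈ M, x ∈ H → x = 1 := by
    intro x hxM hxH
    by_contra hx1
    have hval : ∀ θ : Cfsg.IrrCharacter H, (θ : H → ℂ) ⟨x, hxH⟩ = (θ : H → ℂ) 1 := by
      intro θ
      have h1 := (hN θ x).mp ((Subgroup.mem_iInf.mp hxM) θ)
      have h2 := hχH θ ⟨x, hxH⟩
      have h3 := hχH θ 1
      simp only [Subgroup.coe_one] at h2 h3
      rw [← h2, ← h3]; exact h1
    have hs := sum_irr_one_mul (G := H) ⟨x, hxH⟩
    have hs1 := sum_irr_one_mul (G := H) 1
    rw [if_neg (fun e => hx1 (congrArg Subtype.val e))] at hs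
    rw [if_pos rfl] at hs1
    simp_rw [hval] at hs
    rw [hs] at hs1
    exact card_subgroup_ne_zero H hs1.symm
  have hset : (M : Set G) = Cfsg.frobeniusKernel H := by
    ext x
    constructor
    · intro hx
      by_contra hxK
      rw [not_mem_frobeniusKernel_iff] at hxK
      obtain ⟨hx1, g, hg⟩ := hxK
      have hc : g⁻¹ * x * g ∈ M := by
        have := hMn.conj_mem x hx g⁻¹
        simpa using this
      have := hMH _ hc hg
      apply hx1
      have e : x = g * (g⁻¹ * x * g) * g⁻¹ := by group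
      rw [e, this]; group
    · intro hx
      rw [SetLike.mem_coe, Subgroup.mem_iInf]
      intro θ
      rw [hN θ x, hχK θ x hx, hχK θ 1 one_mem_frobeniusKernel]
  refine ⟨M, hset, hMn, ?_⟩
  apply Subgroup.isComplement'_of_card_mul_and_disjoint
  · have : Nat.card M = H.index := by
      rw [← card_frobeniusKernel hH, ← hset]
      rfl
    rw [this]
    exact H.index_mul_card
  · rw [Subgroup.disjoint_def]
    exact fun hx hy => hMH _ hx hy

end Cfsg.Agent.Lib.Helper15
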