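import Mathlib

set_option autoImplicit false

namespace Cfsg.Agent.Lib.Helper15

variable {A V : Type*} [Group A] [CommGroup V]

/-- fixed-point-free action of `A` on the commutative group `V`. -/
def IsFpf (φ : A →* MulAut V) : Prop := ∀ a : A, a ≠ 1 → ∀ v : V, φ a v = v → v = 1

variable {φ : A →* MulAut V}

theorem IsFpf.prod_subgroup (hf : IsFpf φ) (Q : Subgroup A) [Fintype Q] (hQ : Q ≠ ⊥) (v : V) :
    ∏ u : Q, φ (u : A) v = 1 := by
  obtain ⟨b, hbQ, hb1⟩ : ∃ b ∈ Q, b ≠ 1 := by
    obtain ⟨b, hb⟩ := Subgroup.ne_bot_iff_exists_ne_one.mp hQ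
    exact ⟨(b : A), b.2, fun e => hb (Subtype.ext e)⟩
  apply hf b hb1
  rw [map_prod]
  exact Fintype.prod_equiv (Equiv.mulLeft (⟨b, hbQ⟩ : Q)) _ _ (fun u => by simp [map_mul])

theorem IsFpf.prod_range (hf : IsFpf φ) (c : A) (hc1 : c ≠ 1) (n : ℕ) (hcn : c ^ n = 1) (v : V) :
    ∏ j ∈ Finset.range n, φ (c ^ j) v = 1 := by
  apply hf c hc1
  rw [map_prod]
  have h1 : ∀ j, φ c (φ (c ^ j) v) = φ (c ^ (j + 1)) v := by
    intro j
    rw [pow_succ', map_mul]; rfl
  simp_rw [h1]
  have h2 := Finset.prod_range_succ' (fun j => φ (c ^ j) v) n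
  have h3 := Finset.prod_range_succ (fun j => φ (c ^ j) v) n
  rw [h3] at h2
  simp only [hcn, pow_zero] at h2
  exact (mul_right_cancel h2).symm

theorem IsFpf.coprime [Finite A] [Finite V] (hf : IsFpf φ) :
    (Nat.card A).Coprime (Nat.card V) := by
  apply Nat.Coprime.symm
  apply Nat.coprime_of_dvd
  intro p hp hpV hpA
  have : Fact p.Prime := ⟨hp⟩
  obtain ⟨a, ha⟩ := exists_prime_orderOf_dvd_card' (G := A) p hpA
  let _ : MulAction A V := MulAction.compHom V φ
  have hsm : ∀ (x : A) (v : V), x • v = φ x v := fun _ _ => rfl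
  have hP : IsPGroup p (Subgroup.zpowers a) := by
    apply IsPGroup.of_card (n := 1)
    rw [Nat.card_zpowers, ha, pow_one]
  have h1 : (1 : V) ∈ MulAction.fixedPoints (Subgroup.zpowers a) V := by
    intro x
    change (x : A) • (1 : V) = 1
    rw [hsm, map_one]
  obtain ⟨b, hb, hb1⟩ := hP.exists_fixed_point_of_prime_dvd_card_of_fixed_point V hpV h1
  apply hb1
  have ha1 : a ≠ 1 := by
    intro e; rw [e, orderOf_one] at ha; exact hp.one_lt.ne ha
  have := hb ⟨a, Subgroup.mem_zpowers a⟩
  exact (hf a ha1 b this).symm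

theorem conj_pow_mem {Q : Subgroup A} {x : A} (hnorm : ∀ u ∈ Q, x * u * x⁻¹ ∈ Q) (k : ℕ) :
    ∀ u ∈ Q, x ^ k * u * (x ^ k)⁻¹ ∈ Q := by
  induction k with
  | zero => intro u hu; simpa using hu
  | succ k ih =>
    intro u hu
    have := hnorm _ (ih u hu)
    convert this using 1
    rw [pow_succ']
    group

theorem mul_pow_mul_inv_mem {Q : Subgroup A} {x : A} (hnorm : ∀ u ∈ Q, x * u * x⁻¹ ∈ Q) (k : ℕ) :
    ∀ u ∈ Q, (u * x) ^ k * (x ^ k)⁻¹ ∈ Q := by
  induction k with
  | zero => intro u _; simp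
  | succ k ih =>
    intro u hu
    have h1 := ih u hu
    have h2 := conj_pow_mem hnorm k u hu
    have := Q.mul_mem h1 h2
    convert this using 1
    rw [pow_succ, pow_succ]
    group

theorem eq_of_pow_eq_of_coprime {c d : A} {p k : ℕ} (hp : 1 < p) (hk : Nat.Coprime k p)
    (hc : c ^ p = 1) (hd : d ^ p = 1) (h : c ^ k = d ^ k) : c = d := by
  obtain ⟨m, -, hm⟩ := Nat.exists_mul_mod_eq_one_of_coprime hk hp
  have h1 : c ^ (k * m) = c := by rw [pow_eq_pow_mod _ hc, hm, pow_one]
  have h2 : d ^ (k * m) = d := by rw [pow_eq_pow_mod _ hd, hm, pow_one]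
  rw [← h1, ← h2, pow_mul, pow_mul, h]

/-- The key computation. -/
theorem IsFpf.pow_card_eq_one (hf : IsFpf φ) (Q : Subgroup A) [Finite Q] (hQ : Q ≠ ⊥) (x : A)
    (hxQ : x ∉ Q) (hnorm : ∀ u ∈ Q, x * u * x⁻¹ ∈ Q) (p : ℕ) (hp : p.Prime)
    (hux : ∀ u ∈ Q, (u * x) ^ p = 1) (v : V) : v ^ Nat.card Q = 1 := by
  classical
  have : Fintype Q := Fintype.ofFinite Q
  have h1 : ∏ u : Q, ∏ j ∈ Finset.range p, φ (((u : A) * x) ^ j) v = 1 := by
    apply Finset.prod_eq_one
    intro u _
    apply hf.prod_range _ _ p (hux u u.2) v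
    intro e
    apply hxQ
    have : x = (u : A)⁻¹ := eq_inv_of_mul_eq_one_right e
    rw [this]; exact Q.inv_mem u.2
  rw [Finset.prod_comm] at h1
  obtain ⟨p', rfl⟩ : ∃ p', p = p' + 1 := ⟨p - 1, by have := hp.pos; omega⟩
  rw [Finset.prod_range_succ'] at h1
  have h2 : ∏ j ∈ Finset.range p', ∏ u : Q, φ (((u : A) * x) ^ (j + 1)) v = 1 := by
    apply Finset.prod_eq_one
    intro j hj
    rw [Finset.mem_range] at hj
    let g : Q → Q := fun u => ⟨((u : A) * x) ^ (j + 1) * (x ^ (j + 1))⁻¹,
      mul_pow_mul_inv_mem hnorm (j + 1) u u.2⟩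
    have hcop : Nat.Coprime (j + 1) (p' + 1) := by
      apply Nat.Coprime.symm
      rw [hp.coprime_iff_not_dvd]
      intro hd
      have := Nat.le_of_dvd (by omega) hd
      omega
    have hginj : Function.Injective g := by
      intro u u' huu
      have h3 : ((u : A) * x) ^ (j + 1) * (x ^ (j + 1))⁻¹ = ((u' : A) * x) ^ (j + 1) * (x ^ (j + 1))⁻¹ :=
        congrArg Subtype.val huu
      have h4 := mul_right_cancel h3
      have h5 := eq_of_pow_eq_of_coprime hp.one_lt hcop (hux u u.2) (hux u' u'.2) h4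
      exact Subtype.ext (mul_right_cancel h5)
    have hgbij : Function.Bijective g := Finite.injective_iff_bijective.mp hginj
    have h6 : ∀ u : Q, φ (((u : A) * x) ^ (j + 1)) v = φ ((g u : Q) : A) (φ (x ^ (j + 1)) v) := by
      intro u
      have : ((u : A) * x) ^ (j + 1) = ((g u : Q) : A) * x ^ (j + 1) := by
        simp [g]
      rw [this, map_mul]; rfl
    simp_rw [h6]
    rw [hgbij.prod_comp (fun u : Q => φ (u : A) (φ (x ^ (j + 1)) v))]
    exact hf.prod_subgroup Q hQ _
  rw [h2, one_mul] at h1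
  simpa [Finset.prod_const, Nat.card_eq_fintype_card] using h1

theorem IsFpf.eq_one_of_config [Finite A] [Finite V] (hf : IsFpf φ) (Q : Subgroup A) (hQ : Q ≠ ⊥)
    (x : A) (hxQ : x ∉ Q) (hnorm : ∀ u ∈ Q, x * u * x⁻¹ ∈ Q) (p : ℕ) (hp : p.Prime)
    (hux : ∀ u ∈ Q, (u * x) ^ p = 1) (v : V) : v = 1 := by
  have h1 := hf.pow_card_eq_one Q hQ x hxQ hnorm p hp hux v
  have h2 : orderOf v ∣ Nat.card Q := orderOf_dvd_of_pow_eq_one h1
  have h3 : orderOf v ∣ Nat.card V := orderOf_dvd_natCard v
  have h4 : orderOf v ∣ Nat.card A := h2.trans (Subgroup.card_subgroup_dvd_card Q)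
  have h5 : orderOf v = 1 := Nat.eq_one_of_dvd_coprimes hf.coprime h4 h3
  exact orderOf_eq_one_iff.mp h5

/-- In a group acting fixed-point-freely on a nontrivial abelian group, commuting elements of
the same prime order generate the same subgroup. -/
theorem IsFpf.mem_zpowers_of_commute [Finite A] [Finite V] [Nontrivial V] (hf : IsFpf φ)
    {p : ℕ} (hp : p.Prime) {a b : A} (hab : Commute a b) (ha : orderOf a = p) (hb : orderOf b = p) :
    b ∈ Subgroup.zpowers a := by
  by_contra hbn
  obtain ⟨v, hv⟩ := exists_ne (1 : V)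
  apply hv
  have hcomm : ∀ u ∈ Subgroup.zpowers a, Commute u b := by
    intro u hu
    obtain ⟨k, rfl⟩ := Subgroup.mem_zpowers_iff.mp hu
    exact hab.zpow_left k
  apply hf.eq_one_of_config (Subgroup.zpowers a) _ b hbn _ p hp _ v
  · intro e
    rw [Subgroup.zpowers_eq_bot] at e
    rw [e, orderOf_one] at ha
    exact hp.one_lt.ne ha
  · intro u hu
    have := (hcomm u hu).eq
    rw [← this]
    simpa using hu
  · intro u hu
    rw [(hcomm u hu).mul_pow]
    have h1 : b ^ p = 1 := by rw [← hb]; exact pow_orderOf_eq_one b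
    have h2 : u ^ p = 1 := by
      obtain ⟨k, rfl⟩ := Subgroup.mem_zpowers_iff.mp hu
      rw [← zpow_natCast, ← zpow_mul, mul_comm, zpow_mul, zpow_natCast, ← ha, pow_orderOf_eq_one,
        one_zpow]
    rw [h1, h2, one_mul]

/-- cyclicity criterion for finite abelian groups. -/
theorem card_ker_pow_le {B : Type*} [CommGroup B] [Finite B]
    (h : ∀ p : ℕ, p.Prime → ∀ a b : B, orderOf a = p → orderOf b = p → b ∈ Subgroup.zpowers a)
    (n : ℕ) (hn : 0 < n) : Nat.card (powMonoidHom n : B →* B).ker ≤ n := by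
  induction n using Nat.recOnMul with
  | zero => omega
  | one =>
    have : (powMonoidHom 1 : B →* B).ker = ⊥ := by
      ext x; simp [MonoidHom.mem_ker]
    rw [this]; simp
  | prime p hp =>
    have : Fact p.Prime := ⟨hp⟩
    by_cases hk : (powMonoidHom p : B →* B).ker = ⊥
    · rw [hk]; simp only [Subgroup.card_bot]; exact hp.pos
    · obtain ⟨a, ha, ha1⟩ : ∃ b ∈ (powMonoidHom p : B →* B).ker, b ≠ 1 := by
        obtain ⟨b, hb⟩ := Subgroup.ne_bot_iff_exists_ne_one.mp hk
        exact ⟨(b : B), b.2, fun e => hb (Subtype.ext e)⟩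
      have hap : a ^ p = 1 := ha
      have hoa : orderOf a = p := orderOf_eq_prime hap ha1
      have hle : (powMonoidHom p : B →* B).ker ≤ Subgroup.zpowers a := by
        intro b hb
        have hbp : b ^ p = 1 := hb
        by_cases hb1 : b = 1
        · rw [hb1]; exact Subgroup.one_mem _
        · exact h p hp a b hoa (orderOf_eq_prime hbp hb1)
      calc Nat.card (powMonoidHom p : B →* B).ker ≤ Nat.card (Subgroup.zpowers a) :=
            Subgroup.card_le_of_le hle
        _ = p := by rw [Nat.card_zpowers, hoa]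
  | mul m n ihm ihn =>
    have hm : 0 < m := Nat.pos_of_mul_pos_right hn |> fun h => by
      rcases Nat.eq_zero_or_pos m with h0 | h0
      · simp [h0] at hn
      · exact h0
    have hn' : 0 < n := by
      rcases Nat.eq_zero_or_pos n with h0 | h0
      · simp [h0] at hn
      · exact h0
    let K := (powMonoidHom (m * n) : B →* B).ker
    let f : K →* B := (powMonoidHom m : B →* B).comp K.subtype
    have h1 : Nat.card K = Nat.card f.ker * Nat.card f.range := by
      rw [← Subgroup.index_ker, Subgroup.card_mul_index]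
    have h2 : Nat.card f.ker ≤ Nat.card (powMonoidHom m : B →* B).ker := by
      apply Nat.card_le_card_of_injective
        (fun x : f.ker => (⟨((x : K) : B), x.2⟩ : (powMonoidHom m : B →* B).ker))
      intro x y hxy
      have : ((x : K) : B) = ((y : K) : B) := by
        have := congrArg Subtype.val hxy
        exact this
      exact Subtype.ext (Subtype.ext this)
    have h3 : Nat.card f.range ≤ Nat.card (powMonoidHom n : B →* B).ker := by
      apply Subgroup.card_le_of_le
      rintro _ ⟨x, rfl⟩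
      have hx : (x : B) ^ (m * n) = 1 := x.2
      change ((x : B) ^ m) ^ n = 1
      rw [← pow_mul]; exact hx
    calc Nat.card K = Nat.card f.ker * Nat.card f.range := h1
      _ ≤ m * n := Nat.mul_le_mul (h2.trans (ihm hm)) (h3.trans (ihn hn'))

theorem isCyclic_of_comm_of_prime_rank_one {B : Type*} [CommGroup B] [Finite B]
    (h : ∀ p : ℕ, p.Prime → ∀ a b : B, orderOf a = p → orderOf b = p → b ∈ Subgroup.zpowers a) :
    IsCyclic B := by
  classical
  have : Fintype B := Fintype.ofFinite B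
  apply isCyclic_of_card_pow_eq_one_le
  intro n hn
  have := card_ker_pow_le h n hn
  rw [Nat.card_eq_fintype_card, Fintype.card_subtype] at this
  convert this using 2
  ext x
  simp [MonoidHom.mem_ker]

/-- An abelian group acting fixed-point-freely on a nontrivial abelian group is cyclic. -/
theorem IsFpf.isCyclic_of_comm {B : Type*} [CommGroup B] [Finite B] [Finite V] [Nontrivial V]
    {φ : B →* MulAut V} (hf : IsFpf φ) : IsCyclic B :=
  isCyclic_of_comm_of_prime_rank_one
    (fun _ hp a b ha hb => hf.mem_zpowers_of_commute hp (Commute.all a b) ha hb)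

theorem IsFpf.isCyclic_of_mul_comm [Finite A] [Finite V] [Nontrivial V] (hf : IsFpf φ)
    (hcomm : ∀ a b : A, a * b = b * a) : IsCyclic A := by
  let _ : CommGroup A := { ‹Group A› with mul_comm := hcomm }
  exact isCyclic_of_comm_of_prime_rank_one
    (fun _ hp a b ha hb => hf.mem_zpowers_of_commute hp (hcomm a b) ha hb)

theorem IsFpf.isCyclic_of_card_eq_mul_of_lt [Finite A] [Finite V] [Nontrivial V] (hf : IsFpf φ)
    {p q : ℕ} (hp : p.Prime) (hq : q.Prime) (hpq : p < q) (hcard : Nat.card A = p * q) :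
    IsCyclic A := by
  by_contra hnc
  have := Fact.mk hp
  have := Fact.mk hq
  obtain ⟨y, hy⟩ := exists_prime_orderOf_dvd_card' (G := A) q (hcard ▸ Dvd.intro_left p rfl)
  obtain ⟨x, hx⟩ := exists_prime_orderOf_dvd_card' (G := A) p (hcard ▸ Dvd.intro q rfl)
  obtain ⟨Q, hQdef⟩ : ∃ Q : Subgroup A, Q = Subgroup.zpowers y := ⟨_, rfl⟩
  have hQcard : Nat.card Q = q := by rw [hQdef, Nat.card_zpowers, hy]
  have hQidx : Q.index = p := by
    have := Q.index_mul_card
    rw [hQcard, hcard] at this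
    exact Nat.eq_of_mul_eq_mul_right hq.pos this
  have hmin : (Nat.card A).minFac = p := by
    rw [hcard]
    have h1 : (p * q).minFac ∣ p * q := Nat.minFac_dvd _
    have h2 : (p * q).minFac.Prime := Nat.minFac_prime (by
      have := hp.one_lt; have := hq.one_lt; nlinarith)
    have h3 : (p * q).minFac ≤ p := Nat.minFac_le_of_dvd hp.two_le (Dvd.intro q rfl)
    rcases (Nat.Prime.dvd_mul h2).mp h1 with h | h
    · exact (Nat.prime_dvd_prime_iff_eq h2 hp).mp h
    · have := (Nat.prime_dvd_prime_iff_eq h2 hq).mp h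
      omega
  have hQn : Q.Normal := Subgroup.normal_of_index_eq_minFac_card (by rw [hQidx, hmin])
  have hQbot : Q ≠ ⊥ := by
    intro e
    rw [e, Subgroup.card_bot] at hQcard
    exact hq.one_lt.ne hQcard
  have hxQ : x ∉ Q := by
    intro hxQ
    have h1 : orderOf (⟨x, hxQ⟩ : Q) ∣ Nat.card Q := orderOf_dvd_natCard _
    rw [Subgroup.orderOf_mk, hx, hQcard] at h1
    have := (Nat.prime_dvd_prime_iff_eq hp hq).mp h1
    omega
  obtain ⟨v, hv⟩ := exists_ne (1 : V)
  apply hv
  apply hf.eq_one_of_config Q hQbot x hxQ (fun u hu => hQn.conj_mem u hu x) p hp _ v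
  intro u hu
  have hcQ : u * x ∉ Q := by
    intro h
    apply hxQ
    have := Q.mul_mem (Q.inv_mem hu) h
    simpa using this
  have hd : orderOf (u * x) ∣ p * q := by rw [← hcard]; exact orderOf_dvd_natCard _
  obtain ⟨k₁, k₂, hk₁, hk₂, hk⟩ := (Nat.dvd_mul).mp hd
  rcases (Nat.dvd_prime hp).mp hk₁ with rfl | rfl
  · rcases (Nat.dvd_prime hq).mp hk₂ with rfl | rfl
    · exfalso
      apply hcQ
      rw [one_mul] at hk
      rw [orderOf_eq_one_iff.mp hk.symm]
      exact Q.one_mem
    · exfalso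
      apply hcQ
      rw [one_mul] at hk
      have hcq : (u * x) ^ k₂ = 1 := by rw [hk]; exact pow_orderOf_eq_one _
      have hcp : (u * x) ^ p ∈ Q := by
        have := Q.pow_index_mem (u * x)
        rwa [hQidx] at this
      have hcop : Nat.Coprime p k₂ := (Nat.coprime_primes hp hq).mpr (by omega)
      obtain ⟨m, -, hm⟩ := Nat.exists_mul_mod_eq_one_of_coprime hcop hq.one_lt
      have h1 : (u * x) ^ (p * m) = u * x := by rw [pow_eq_pow_mod _ hcq, hm, pow_one]
      rw [← h1, pow_mul]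
      exact Q.pow_mem hcp m
  · rcases (Nat.dvd_prime hq).mp hk₂ with rfl | rfl
    · rw [mul_one] at hk
      rw [hk]; exact pow_orderOf_eq_one _
    · exfalso
      apply hnc
      exact isCyclic_of_orderOf_eq_card (u * x) (by rw [← hk, hcard])

theorem IsFpf.isCyclic_of_card_eq_mul [Finite A] [Finite V] [Nontrivial V] (hf : IsFpf φ)
    {p q : ℕ} (hp : p.Prime) (hq : q.Prime) (hcard : Nat.card A = p * q) :
    IsCyclic A := by
  rcases lt_trichotomy p q with h | h | h
  · exact hf.isCyclic_of_card_eq_mul_of_lt hp hq h hcard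
  · subst h
    have := Fact.mk hp
    exact hf.isCyclic_of_mul_comm
      (IsPGroup.commutative_of_card_eq_prime_sq (p := p) (by rw [hcard, sq]))
  · exact hf.isCyclic_of_card_eq_mul_of_lt hq hp h (by rw [hcard, mul_comm])

end Cfsg.Agent.Lib.Helper15
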