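import Mathlib
import Cfsg.Agent.Lib.Helper15.Fpf

set_option autoImplicit false

namespace Cfsg.Agent.Lib.Helper15

open scoped IsMulCommutative

variable {G : Type*} [Group G]

/-- conjugation action of `A` on a subgroup `V` that it normalises -/
noncomputable def conjAct (A V : Subgroup G) (h : A ≤ Subgroup.normalizer (V : Set G)) :
    A →* MulAut V :=
  (V.normalizerMonoidHom).comp (Subgroup.inclusion h)

theorem conjAct_coe (A V : Subgroup G) (h : A ≤ Subgroup.normalizer (V : Set G)) (a : A) (v : V) :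
    ((conjAct A V h a v : V) : G) = a * v * (a : G)⁻¹ := rfl

theorem isFpf_conjAct (A V : Subgroup G) [IsMulCommutative V]
    (h : A ≤ Subgroup.normalizer (V : Set G))
    (hfpf : ∀ a ∈ A, a ≠ 1 → V ⊓ Subgroup.centralizer {a} = ⊥) : IsFpf (conjAct A V h) := by
  intro a ha v hv
  have h1 : (a : G) * v * (a : G)⁻¹ = v := congrArg Subtype.val hv
  have h2 : (v : G) ∈ V ⊓ Subgroup.centralizer {(a : G)} := by
    refine Subgroup.mem_inf.mpr ⟨v.2, ?_⟩
    rw [Subgroup.mem_centralizer_singleton_iff]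
    calc (v : G) * a = ((a : G) * v * (a : G)⁻¹) * a := by rw [h1]
      _ = a * v := by group
  rw [hfpf a a.2 (fun e => ha (Subtype.ext e)), Subgroup.mem_bot] at h2
  exact Subtype.ext h2

/-- S0041 -/
theorem isCyclic_of_fpf_abelian [Finite G] (A V : Subgroup G) [IsMulCommutative V]
    (hV : V ≠ ⊥) (hAV : A ≤ Subgroup.normalizer (V : Set G))
    (hfpf : ∀ a ∈ A, a ≠ 1 → V ⊓ Subgroup.centralizer {a} = ⊥)
    (hA : IsMulCommutative A ∨ ∃ p q : ℕ, p.Prime ∧ q.Prime ∧ Nat.card A = p * q) :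
    IsCyclic A := by
  have hf := isFpf_conjAct A V hAV hfpf
  have : Nontrivial V := (Subgroup.nontrivial_iff_ne_bot V).mpr hV
  rcases hA with h | ⟨p, q, hp, hq, hcard⟩
  · exact hf.isCyclic_of_mul_comm (fun a b => mul_comm' a b)
  · exact hf.isCyclic_of_card_eq_mul hp hq hcard

/-- commuting elements of the same prime order in a group acting fpf on abelian `V` -/
theorem mem_zpowers_of_fpf_abelian [Finite G] (A V : Subgroup G) [IsMulCommutative V]
    (hV : V ≠ ⊥) (hAV : A ≤ Subgroup.normalizer (V : Set G))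
    (hfpf : ∀ a ∈ A, a ≠ 1 → V ⊓ Subgroup.centralizer {a} = ⊥)
    {p : ℕ} (hp : p.Prime) {a b : G} (ha : a ∈ A) (hb : b ∈ A) (hab : a * b = b * a)
    (hoa : orderOf a = p) (hob : orderOf b = p) : b ∈ Subgroup.zpowers a := by
  have hf := isFpf_conjAct A V hAV hfpf
  have : Nontrivial V := (Subgroup.nontrivial_iff_ne_bot V).mpr hV
  have h1 := hf.mem_zpowers_of_commute hp (a := ⟨a, ha⟩) (b := ⟨b, hb⟩) (Subtype.ext hab)
    (by rw [Subgroup.orderOf_mk]; exact hoa) (by rw [Subgroup.orderOf_mk]; exact hob)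
  obtain ⟨k, hk⟩ := Subgroup.mem_zpowers_iff.mp h1
  rw [Subgroup.mem_zpowers_iff]
  refine ⟨k, ?_⟩
  have := congrArg Subtype.val hk
  simpa using this

theorem coprime_of_fpf_abelian [Finite G] (A V : Subgroup G) [IsMulCommutative V]
    (hAV : A ≤ Subgroup.normalizer (V : Set G))
    (hfpf : ∀ a ∈ A, a ≠ 1 → V ⊓ Subgroup.centralizer {a} = ⊥) :
    (Nat.card A).Coprime (Nat.card V) :=
  (isFpf_conjAct A V hAV hfpf).coprime

end Cfsg.Agent.Lib.Helper15
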