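import Mathlib
import Cfsg.Agent.Lib.Helper15.FpfSub

set_option autoImplicit false

namespace Cfsg.Agent.Lib.Helper15

open scoped commutatorElement

/-- induced action on a quotient by an invariant normal subgroup -/
noncomputable def quotAct {P A : Type*} [Group P] [Group A] (M : Subgroup P) [M.Normal]
    (ψ : A →* MulAut P) (h : ∀ a, M.map ((ψ a : P ≃* P) : P →* P) = M) : A →* MulAut (P ⧸ M) where
  toFun a := QuotientGroup.congr M M (ψ a) (h a)
  map_one' := by
    ext x
    induction x using QuotientGroup.induction_on with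
    | H x => simp
  map_mul' a b := by
    ext x
    induction x using QuotientGroup.induction_on with
    | H x => simp

theorem quotAct_mk {P A : Type*} [Group P] [Group A] (M : Subgroup P) [M.Normal]
    (ψ : A →* MulAut P) (h : ∀ a, M.map ((ψ a : P ≃* P) : P →* P) = M) (a : A) (x : P) :
    quotAct M ψ h a (QuotientGroup.mk x) = QuotientGroup.mk (ψ a x) := rfl

theorem isCyclic_of_fpf_group {A V : Type*} [Group A] [Group V] [Finite A] [Finite V] [Nontrivial V]
    (hV : ∀ x y : V, x * y = y * x) (φ : A →* MulAut V)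
    (hf : ∀ a : A, a ≠ 1 → ∀ v : V, φ a v = v → v = 1) (hcomm : ∀ a b : A, a * b = b * a) :
    IsCyclic A := by
  let _ : CommGroup V := { ‹Group V› with mul_comm := hV }
  exact IsFpf.isCyclic_of_mul_comm (φ := φ) hf hcomm

variable {G : Type*} [Group G]

theorem le_normalizer_of_forall_conj_mem {A M : Subgroup G}
    (h : ∀ a ∈ A, ∀ x ∈ M, a * x * a⁻¹ ∈ M) : A ≤ Subgroup.normalizer (M : Set G) := by
  intro a ha
  rw [Subgroup.mem_normalizer_iff]
  intro x
  constructor
  · exact h a ha x
  · intro hx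
    have := h a⁻¹ (A.inv_mem ha) _ hx
    convert this using 1
    group

/-- an abelian group acting fixed-point-freely on a nontrivial abelian section `P/M` is cyclic -/
theorem isCyclic_of_fpf_section [Finite G] (A P M : Subgroup G) (hMP : M ≤ P) (hMne : M ≠ P)
    (hAP : A ≤ Subgroup.normalizer (P : Set G)) (hAM : A ≤ Subgroup.normalizer (M : Set G))
    (hcomm : ⁅P, P⁆ ≤ M) (hA : ∀ a b : A, a * b = b * a)
    (hfix : ∀ a ∈ A, a ≠ 1 → ∀ x ∈ P, x⁻¹ * (a * x * a⁻¹) ∈ M → x ∈ M) : IsCyclic A := by
  have hn : (M.subgroupOf P).Normal := by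
    constructor
    intro m hm x
    rw [Subgroup.mem_subgroupOf] at hm ⊢
    have h1 : ⁅(x : G), (m : G)⁆ ∈ M := hcomm (Subgroup.commutator_mem_commutator x.2 m.2)
    have h2 : ((x * m * x⁻¹ : P) : G) = ⁅(x : G), (m : G)⁆ * m := by
      simp [commutatorElement_def]
    rw [h2]
    exact M.mul_mem h1 hm
  let ψ := conjAct A P hAP
  have hmap : ∀ a, (M.subgroupOf P).map ((ψ a : P ≃* P) : P →* P) = M.subgroupOf P := by
    intro a
    rw [Subgroup.map_equiv_eq_comap_symm]
    ext y
    rw [Subgroup.mem_comap, Subgroup.mem_subgroupOf, Subgroup.mem_subgroupOf]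
    have h1 : (((ψ a).symm y : P) : G) = (a : G)⁻¹ * y * a := by
      have : (ψ a).symm = ψ a⁻¹ := by rw [map_inv]; rfl
      change (((ψ a).symm y : P) : G) = _
      rw [this, conjAct_coe]
      simp
    have h2 := (Subgroup.mem_normalizer_iff.mp (hAM (A.inv_mem a.2))) (y : G)
    simp only [inv_inv] at h2
    change (((ψ a).symm y : P) : G) ∈ M ↔ _
    rw [h1]
    exact h2.symm
  have hV : ∀ x y : P ⧸ M.subgroupOf P, x * y = y * x := by
    intro x y
    induction x using QuotientGroup.induction_on with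
    | H x =>
      induction y using QuotientGroup.induction_on with
      | H y =>
        rw [← QuotientGroup.mk_mul, ← QuotientGroup.mk_mul, QuotientGroup.eq, Subgroup.mem_subgroupOf]
        have h1 : ⁅(y : G)⁻¹, (x : G)⁻¹⁆ ∈ M :=
          hcomm (Subgroup.commutator_mem_commutator (P.inv_mem y.2) (P.inv_mem x.2))
        convert h1 using 1
        simp [commutatorElement_def, mul_assoc]
  have hnt : Nontrivial (P ⧸ M.subgroupOf P) := by
    obtain ⟨x, hxP, hxM⟩ : ∃ x ∈ P, x ∉ M := by
      by_contra hcon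
      push Not at hcon
      exact hMne (le_antisymm hMP hcon)
    refine ⟨⟨QuotientGroup.mk ⟨x, hxP⟩, 1, ?_⟩⟩
    intro e
    rw [QuotientGroup.eq_one_iff, Subgroup.mem_subgroupOf] at e
    exact hxM e
  apply isCyclic_of_fpf_group hV (quotAct (M.subgroupOf P) ψ hmap) _ hA
  intro a ha v hv
  induction v using QuotientGroup.induction_on with
  | H x =>
    rw [quotAct_mk] at hv
    have h1 := QuotientGroup.eq.mp hv.symm
    rw [Subgroup.mem_subgroupOf] at h1
    have h2 : ((x⁻¹ * ψ a x : P) : G) = (x : G)⁻¹ * (a * x * (a : G)⁻¹) := rfl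
    rw [h2] at h1
    have h3 := hfix a a.2 (fun e => ha (Subtype.ext e)) x x.2 h1
    rw [QuotientGroup.eq_one_iff, Subgroup.mem_subgroupOf]
    exact h3

end Cfsg.Agent.Lib.Helper15
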