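import Mathlib
import Cfsg.Agent.Lib.Helper15.QuotAct
import Cfsg.Agent.S0023
import Cfsg.Agent.S0144

set_option autoImplicit false

namespace Cfsg.Agent.Lib.Helper15

open scoped IsMulCommutative

theorem coprime_of_fpf_hom {A V : Type*} [Group A] [Group V] [Finite A] [Finite V]
    (φ : A →* MulAut V) (hf : ∀ a : A, a ≠ 1 → ∀ v : V, φ a v = v → v = 1) :
    (Nat.card A).Coprime (Nat.card V) := by
  apply Nat.Coprime.symm
  apply Nat.coprime_of_dvd
  intro p hp hpV hpA
  have : Fact p.Prime := ⟨hp⟩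
  obtain ⟨a, ha⟩ := exists_prime_orderOf_dvd_card' (G := A) p hpA
  let _ : MulAction A V := MulAction.compHom V φ
  have hsm : ∀ (x : A) (v : V), x • v = φ x v := fun _ _ => rfl
  have hP : IsPGroup p (Subgroup.zpowers a) := by
    apply IsPGroup.of_card (n := 1)
    rw [Nat.card_zpowers, ha, pow_one]
  have h1 : (1 : V) ∈ MulAction.fixedPoints (Subgroup.zpowers a) V := by
    intro x
    change (x : A) • (1 : V) = 1
    rw [hsm, map_one]
  obtain ⟨b, hb, hb1⟩ := hP.exists_fixed_point_of_prime_dvd_card_of_fixed_point V hpV h1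
  apply hb1
  have ha1 : a ≠ 1 := by
    intro e; rw [e, orderOf_one] at ha; exact hp.one_lt.ne ha
  have := hb ⟨a, Subgroup.mem_zpowers a⟩
  exact (hf a ha1 b this).symm

variable {G : Type*} [Group G]

/-- A fixed-point-free action is coprime. -/
theorem coprime_of_fpf [Finite G] (A K : Subgroup G) (hAK : A ≤ Subgroup.normalizer (K : Set G))
    (hfpf : ∀ a ∈ A, a ≠ 1 → K ⊓ Subgroup.centralizer {a} = ⊥) :
    (Nat.card A).Coprime (Nat.card K) := by
  apply coprime_of_fpf_hom (conjAct A K hAK)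
  intro a ha v hv
  have h1 : (a : G) * v * (a : G)⁻¹ = v := congrArg Subtype.val hv
  have h2 : (v : G) ∈ K ⊓ Subgroup.centralizer {(a : G)} := by
    refine Subgroup.mem_inf.mpr ⟨v.2, ?_⟩
    rw [Subgroup.mem_centralizer_singleton_iff]
    calc (v : G) * a = ((a : G) * v * (a : G)⁻¹) * a := by rw [h1]
      _ = a * v := by group
  rw [hfpf a a.2 (fun e => ha (Subtype.ext e)), Subgroup.mem_bot] at h2
  exact Subtype.ext h2

/-- A solvable group acting coprimely on `K ≠ 1` normalises a nontrivial abelian subgroup. -/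
theorem exists_invariant_abelian [Finite G] (A K : Subgroup G)
    (hAK : A ≤ Subgroup.normalizer (K : Set G)) (hK : K ≠ ⊥)
    (hcop : (Nat.card A).Coprime (Nat.card K)) (hsolv : Group.IsSolvable A) :
    ∃ V : Subgroup G, V ≤ K ∧ V ≠ ⊥ ∧ IsMulCommutative V ∧
      A ≤ Subgroup.normalizer (V : Set G) := by
  have hcard : Nat.card K ≠ 1 := fun h => hK (Subgroup.card_eq_one.mp h)
  have hs : (Nat.card K).minFac.Prime := Nat.minFac_prime hcard
  have := Fact.mk hs
  obtain ⟨S, hS⟩ := Cfsg.Agent.S0023.result A K hAK hcop (Or.inl hsolv) (Nat.card K).minFac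
  obtain ⟨SG, hSG⟩ : ∃ SG : Subgroup G, SG = (S : Subgroup K).map K.subtype := ⟨_, rfl⟩
  rw [← hSG] at hS
  have hSGK : SG ≤ K := by rw [hSG]; exact Subgroup.map_subtype_le _
  have hSGp : IsPGroup (Nat.card K).minFac SG := by rw [hSG]; exact S.2.map _
  have hSGne : SG ≠ ⊥ := by
    rw [hSG, Ne, Subgroup.map_eq_bot_iff_of_injective _ (Subgroup.subtype_injective K)]
    exact S.ne_bot_of_dvd_card (Nat.minFac_dvd _)
  have : Nontrivial SG := (Subgroup.nontrivial_iff_ne_bot _).mpr hSGne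
  have := hSGp.center_nontrivial
  obtain ⟨z, hz⟩ := exists_ne (1 : Subgroup.center SG)
  refine ⟨SG ⊓ Subgroup.centralizer (SG : Set G), inf_le_left.trans hSGK, ?_, ?_, ?_⟩
  · intro e
    have h1 : ((z : SG) : G) ∈ SG ⊓ Subgroup.centralizer (SG : Set G) := by
      refine Subgroup.mem_inf.mpr ⟨(z : SG).2, ?_⟩
      rw [Subgroup.mem_centralizer_iff]
      intro y hy
      have := (Subgroup.mem_center_iff.mp z.2) ⟨y, hy⟩
      exact congrArg Subtype.val this
    rw [e, Subgroup.mem_bot] at h1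
    exact hz (Subtype.ext (Subtype.ext h1))
  · refine ⟨⟨fun a b => Subtype.ext ?_⟩⟩
    have ha := (Subgroup.mem_inf.mp a.2).2
    have hb := (Subgroup.mem_inf.mp b.2).1
    exact ((Subgroup.mem_centralizer_iff.mp ha) b hb).symm
  · apply le_normalizer_of_forall_conj_mem
    intro a ha v hv
    obtain ⟨hv1, hv2⟩ := Subgroup.mem_inf.mp hv
    refine Subgroup.mem_inf.mpr ⟨(Subgroup.mem_normalizer_iff.mp (hS ha) v).mp hv1, ?_⟩
    rw [Subgroup.mem_centralizer_iff]
    intro y hy
    have hy' : a⁻¹ * y * a ∈ SG := by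
      have := (Subgroup.mem_normalizer_iff.mp (hS (A.inv_mem ha)) y).mp hy
      simpa using this
    have h1 := (Subgroup.mem_centralizer_iff.mp hv2) _ hy'
    calc y * (a * v * a⁻¹) = a * ((a⁻¹ * y * a) * v) * a⁻¹ := by group
      _ = a * (v * (a⁻¹ * y * a)) * a⁻¹ := by rw [h1]
      _ = a * v * a⁻¹ * y := by group

/-- generalisation of S0041 to a not necessarily abelian `K`. -/
theorem isCyclic_of_fpf [Finite G] (A K : Subgroup G)
    (hK : K ≠ ⊥) (hAK : A ≤ Subgroup.normalizer (K : Set G))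
    (hfpf : ∀ a ∈ A, a ≠ 1 → K ⊓ Subgroup.centralizer {a} = ⊥)
    (hA : IsMulCommutative A ∨ ∃ p q : ℕ, p.Prime ∧ q.Prime ∧ Nat.card A = p * q) :
    IsCyclic A := by
  have hsolv : Group.IsSolvable A := by
    rcases hA with h | ⟨p, q, hp, hq, hcard⟩
    · infer_instance
    · exact Cfsg.Agent.S0144.result p q 1 1 hp hq (by simpa using hcard)
  obtain ⟨V, hVK, hV, hVc, hAV⟩ := exists_invariant_abelian A K hAK hK
    (coprime_of_fpf A K hAK hfpf) hsolv
  apply isCyclic_of_fpf_abelian A V hV hAV _ hA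
  intro a ha ha1
  rw [eq_bot_iff, ← hfpf a ha ha1]
  exact inf_le_inf_right _ hVK

theorem mem_zpowers_of_fpf [Finite G] (A K : Subgroup G)
    (hK : K ≠ ⊥) (hAK : A ≤ Subgroup.normalizer (K : Set G))
    (hfpf : ∀ a ∈ A, a ≠ 1 → K ⊓ Subgroup.centralizer {a} = ⊥)
    {p : ℕ} (hp : p.Prime) {a b : G} (ha : a ∈ A) (hb : b ∈ A) (hab : a * b = b * a)
    (hoa : orderOf a = p) (hob : orderOf b = p) : b ∈ Subgroup.zpowers a := by
  have hcl : Subgroup.closure {a, b} ≤ A := by
    rw [Subgroup.closure_le]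
    intro x hx
    rcases hx with rfl | rfl
    · exact ha
    · exact hb
  have hcomm : IsMulCommutative (Subgroup.closure ({a, b} : Set G)) := by
    apply Subgroup.isMulCommutative_closure
    intro x hx y hy
    rcases hx with rfl | rfl <;> rcases hy with rfl | rfl
    · rfl
    · exact hab
    · exact hab.symm
    · rfl
  have hfpf' : ∀ c ∈ Subgroup.closure ({a, b} : Set G), c ≠ 1 →
      K ⊓ Subgroup.centralizer {c} = ⊥ := fun c hc => hfpf c (hcl hc)
  obtain ⟨V, hVK, hV, hVc, hAV⟩ := exists_invariant_abelian (Subgroup.closure ({a, b} : Set G)) K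
    (hcl.trans hAK) hK (coprime_of_fpf _ K (hcl.trans hAK) hfpf') inferInstance
  apply mem_zpowers_of_fpf_abelian (Subgroup.closure ({a, b} : Set G)) V hV hAV _ hp
    (Subgroup.subset_closure (by simp)) (Subgroup.subset_closure (by simp)) hab hoa hob
  intro c hc hc1
  rw [eq_bot_iff, ← hfpf' c hc hc1]
  exact inf_le_inf_right _ hVK

end Cfsg.Agent.Lib.Helper15
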