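import Mathlib
import Cfsg.Prelude.Def_Solvable
import Cfsg.Agent.Lib.Helper15.Frob

set_option autoImplicit false

namespace Cfsg.Agent.Lib.Helper15

open Pointwise

variable {G : Type*} [Group G] {H : Subgroup G}

theorem isFrobeniusComplement_iff :
    Cfsg.IsFrobeniusComplement H ↔
      H ≠ ⊥ ∧ H ≠ ⊤ ∧ ∀ h ∈ H, h ≠ 1 → ∀ g, g⁻¹ * h * g ∈ H → g ∈ H := by
  constructor
  · intro hH
    exact ⟨hH.1, hH.2.1, fun h hh h1 g hg => frob_mem_of_conj_mem hH hh h1 hg⟩
  · rintro ⟨h1, h2, h3⟩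
    refine ⟨h1, h2, fun g hg => ?_⟩
    rw [eq_bot_iff]
    intro x hx
    obtain ⟨hxH, hxg⟩ := Subgroup.mem_inf.mp hx
    rw [mem_conj_smul_iff] at hxg
    rw [Subgroup.mem_bot]
    by_contra hx1
    exact hg (h3 x hxH hx1 g hxg)

/-- two conjugates of `H` sharing a nonidentity element coincide -/
theorem frob_inv_mul_mem (hH : Cfsg.IsFrobeniusComplement H) {z x y : G} (hz : z ≠ 1)
    (hx : x⁻¹ * z * x ∈ H) (hy : y⁻¹ * z * y ∈ H) : x⁻¹ * y ∈ H := by
  apply frob_mem_of_conj_mem hH hx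
  · intro e
    apply hz
    have : z = x * (x⁻¹ * z * x) * x⁻¹ := by group
    rw [this, e]; group
  · convert hy using 1
    group

theorem frob_conj (hH : Cfsg.IsFrobeniusComplement H) (a : G) :
    Cfsg.IsFrobeniusComplement (MulAut.conj a • H) := by
  rw [isFrobeniusComplement_iff]
  refine ⟨?_, ?_, ?_⟩
  · intro e
    apply hH.1
    rw [eq_bot_iff]
    intro h hh
    have : a * h * a⁻¹ ∈ MulAut.conj a • H := by
      rw [mem_conj_smul_iff]; convert hh using 1; group
    rw [e, Subgroup.mem_bot] at this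
    rw [Subgroup.mem_bot]
    have e2 : h = a⁻¹ * (a * h * a⁻¹) * a := by group
    rw [e2, this]; group
  · intro e
    apply hH.2.1
    rw [eq_top_iff]
    intro g _
    have : a * g * a⁻¹ ∈ MulAut.conj a • H := by rw [e]; exact Subgroup.mem_top _
    rw [mem_conj_smul_iff] at this
    convert this using 1; group
  · intro h hh h1 g hg
    rw [mem_conj_smul_iff] at hh hg ⊢
    have h2 : (g * a)⁻¹ * h * (g * a) ∈ H := by convert hg using 1; group
    have := frob_inv_mul_mem hH h1 hh h2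
    convert this using 1; group

theorem frob_subgroupOf (hH : Cfsg.IsFrobeniusComplement H) (U : Subgroup G)
    (h1 : ∃ d ∈ U, d ∈ H ∧ d ≠ 1) (h2 : ¬ U ≤ H) :
    Cfsg.IsFrobeniusComplement (H.subgroupOf U) := by
  rw [isFrobeniusComplement_iff]
  refine ⟨?_, ?_, ?_⟩
  · intro e
    obtain ⟨d, hdU, hdH, hd1⟩ := h1
    have : (⟨d, hdU⟩ : U) ∈ H.subgroupOf U := Subgroup.mem_subgroupOf.mpr hdH
    rw [e, Subgroup.mem_bot] at this
    exact hd1 (congrArg Subtype.val this)
  · intro e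
    exact h2 (Subgroup.subgroupOf_eq_top.mp e)
  · intro h hh hne g hg
    rw [Subgroup.mem_subgroupOf] at hh hg ⊢
    exact frob_mem_of_conj_mem hH hh (fun e => hne (Subtype.ext e)) hg

theorem two_mul_index_le [Finite G] (hH : H ≠ ⊥) : 2 * H.index ≤ Nat.card G := by
  have h1 := H.index_mul_card
  have h2 : 2 ≤ Nat.card H := by
    have h3 : Nat.card H ≠ 1 := fun e => hH (Subgroup.card_eq_one.mp e)
    have h4 : 0 < Nat.card H := Nat.card_pos
    omega
  calc 2 * H.index = H.index * 2 := by ring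
    _ ≤ H.index * Nat.card H := Nat.mul_le_mul_left _ h2
    _ = Nat.card G := h1

theorem conj_inv_smul_le {U : Subgroup G} {a : G} (h : U ≤ MulAut.conj a • H) :
    MulAut.conj a⁻¹ • U ≤ H := by
  intro y hy
  rw [mem_conj_smul_iff] at hy
  have := h hy
  rw [mem_conj_smul_iff] at this
  convert this using 1; group

/-- A subgroup all of whose nonidentity elements are conjugate into the Frobenius complement `H`
is itself conjugate into `H`. -/
theorem exists_conj_le_of_forall [Finite G] (hH : Cfsg.IsFrobeniusComplement H) (U : Subgroup G)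
    (hU : ∀ u ∈ U, u ≠ 1 → ∃ g, g⁻¹ * u * g ∈ H) : ∃ g : G, MulAut.conj g • U ≤ H := by
  classical
  by_cases hUbot : U = ⊥
  · refine ⟨1, ?_⟩
    rw [hUbot]
    simp
  obtain ⟨u₀, hu₀U, hu₀1⟩ : ∃ b ∈ U, b ≠ 1 := by
    obtain ⟨b, hb⟩ := Subgroup.ne_bot_iff_exists_ne_one.mp hUbot
    exact ⟨(b : G), b.2, fun e => hb (Subtype.ext e)⟩
  obtain ⟨a, ha⟩ := hU u₀ hu₀U hu₀1
  by_cases hUa : U ≤ MulAut.conj a • H
  · exact ⟨a⁻¹, conj_inv_smul_le hUa⟩
  have hD := frob_subgroupOf (frob_conj hH a) U ⟨u₀, hu₀U, mem_conj_smul_iff.mpr ha, hu₀1⟩ hUa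
  have hF := card_frobeniusKernel hD
  have hidx2 : 2 ≤ ((MulAut.conj a • H).subgroupOf U).index := by
    have h1 : ((MulAut.conj a • H).subgroupOf U).index ≠ 1 := by
      rw [Ne, Subgroup.index_eq_one]; exact hD.2.1
    have h2 : ((MulAut.conj a • H).subgroupOf U).index ≠ 0 := Subgroup.index_ne_zero_of_finite
    omega
  obtain ⟨y, hyF, hy1⟩ : ∃ y ∈ Cfsg.frobeniusKernel ((MulAut.conj a • H).subgroupOf U), y ≠ 1 := by
    have h1 : 1 < Nat.card (Cfsg.frobeniusKernel ((MulAut.conj a • H).subgroupOf U)) := by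
      rw [hF]; omega
    rw [Finite.one_lt_card_iff_nontrivial] at h1
    obtain ⟨y, hy⟩ := exists_ne (⟨1, one_mem_frobeniusKernel⟩ :
      Cfsg.frobeniusKernel ((MulAut.conj a • H).subgroupOf U))
    exact ⟨y.1, y.2, fun e => hy (Subtype.ext e)⟩
  obtain ⟨b, hb⟩ := hU y y.2 (fun e => hy1 (Subtype.ext e))
  by_cases hUb : U ≤ MulAut.conj b • H
  · exact ⟨b⁻¹, conj_inv_smul_le hUb⟩
  exfalso
  have hD₂ := frob_subgroupOf (frob_conj hH b) U
    ⟨y, y.2, mem_conj_smul_iff.mpr hb, fun e => hy1 (Subtype.ext e)⟩ hUb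
  have hF₂ := card_frobeniusKernel hD₂
  have hcover : Cfsg.frobeniusKernel ((MulAut.conj a • H).subgroupOf U) ∪
      Cfsg.frobeniusKernel ((MulAut.conj b • H).subgroupOf U) = Set.univ := by
    rw [Set.eq_univ_iff_forall]
    intro z
    by_contra hz
    rw [Set.mem_union, not_or, not_mem_frobeniusKernel_iff, not_mem_frobeniusKernel_iff] at hz
    obtain ⟨⟨hz1, u, hu⟩, ⟨-, w, hw⟩⟩ := hz
    rw [Subgroup.mem_subgroupOf, mem_conj_smul_iff] at hu hw
    have hz1' : (z : G) ≠ 1 := fun e => hz1 (Subtype.ext e)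
    have hu' : ((u : G) * a)⁻¹ * (z : G) * ((u : G) * a) ∈ H := by
      convert hu using 1
      simp only [Subgroup.coe_mul, Subgroup.coe_inv]
      group
    have hw' : ((w : G) * b)⁻¹ * (z : G) * ((w : G) * b) ∈ H := by
      convert hw using 1
      simp only [Subgroup.coe_mul, Subgroup.coe_inv]
      group
    have ht := frob_inv_mul_mem hH hz1' hu' hw'
    rw [mem_frobeniusKernel_iff] at hyF
    rcases hyF with e | hyF
    · exact hy1 e
    · apply hyF (w⁻¹ * u)
      rw [Subgroup.mem_subgroupOf, mem_conj_smul_iff]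
      have h3 := H.mul_mem (H.mul_mem ht hb) (H.inv_mem ht)
      convert h3 using 1
      simp only [Subgroup.coe_mul, Subgroup.coe_inv]
      group
  have h1 := Set.ncard_union_add_ncard_inter
    (Cfsg.frobeniusKernel ((MulAut.conj a • H).subgroupOf U))
    (Cfsg.frobeniusKernel ((MulAut.conj b • H).subgroupOf U))
  rw [hcover, Set.ncard_univ] at h1
  have h2 : 0 < (Cfsg.frobeniusKernel ((MulAut.conj a • H).subgroupOf U) ∩
      Cfsg.frobeniusKernel ((MulAut.conj b • H).subgroupOf U)).ncard := by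
    rw [Set.ncard_pos]
    exact ⟨1, one_mem_frobeniusKernel, one_mem_frobeniusKernel⟩
  have h3 := two_mul_index_le hD.1
  have h4 := two_mul_index_le hD₂.1
  rw [← hF] at h3
  rw [← hF₂] at h4
  rw [Nat.card_coe_set_eq] at h3 h4
  omega

/-- S0037 -/
theorem frob_exists_conj_le [Finite G] {H₀ : Subgroup G} (hH : Cfsg.IsFrobeniusComplement H)
    (hH₀ : Cfsg.IsFrobeniusComplement H₀) (hle : Nat.card H₀ ≤ Nat.card H) :
    ∃ g : G, MulAut.conj g • H₀ ≤ H := by
  classical
  apply exists_conj_le_of_forall hH H₀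
  intro u hu hu1
  by_contra hcon
  push Not at hcon
  have huK : u ∈ Cfsg.frobeniusKernel H := mem_frobeniusKernel_iff.mpr (Or.inr hcon)
  let f : G ⧸ H₀ → {x : Cfsg.frobeniusKernel H // x ≠ ⟨1, one_mem_frobeniusKernel⟩} := fun q =>
    ⟨⟨q.out * u * q.out⁻¹, conj_mem_frobeniusKernel huK _⟩, by
      intro e
      apply hu1
      have e' : q.out * u * q.out⁻¹ = 1 := congrArg Subtype.val e
      have : u = q.out⁻¹ * (q.out * u * q.out⁻¹) * q.out := by group
      rw [this, e']; group⟩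
  have hf : Function.Injective f := by
    intro q q' hqq
    have e : q.out * u * q.out⁻¹ = q'.out * u * q'.out⁻¹ :=
      congrArg (fun z => ((z : {x : Cfsg.frobeniusKernel H // x ≠ ⟨1, one_mem_frobeniusKernel⟩}) :
        Cfsg.frobeniusKernel H).1) hqq
    have h2 : (q.out⁻¹ * q'.out) * u * (q.out⁻¹ * q'.out)⁻¹ ∈ H₀ := by
      have : (q.out⁻¹ * q'.out) * u * (q.out⁻¹ * q'.out)⁻¹
          = q.out⁻¹ * (q'.out * u * q'.out⁻¹) * q.out := by group
      rw [this, ← e]
      have : q.out⁻¹ * (q.out * u * q.out⁻¹) * q.out = u := by group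
      rw [this]; exact hu
    have h3 := frob_mem_of_conj_mem' hH₀ hu hu1 h2
    rw [← QuotientGroup.out_eq' q, ← QuotientGroup.out_eq' q']
    exact QuotientGroup.eq.mpr h3
  have h1 := Nat.card_le_card_of_injective f hf
  have h2 : Nat.card {x : Cfsg.frobeniusKernel H // x ≠ ⟨1, one_mem_frobeniusKernel⟩} + 1
      = Nat.card (Cfsg.frobeniusKernel H) := by
    have := Nat.card_congr (Equiv.sumCompl
      (fun x : Cfsg.frobeniusKernel H => x ≠ ⟨1, one_mem_frobeniusKernel⟩))
    rw [Nat.card_sum] at this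
    rw [← this]
    congr 1
    have : Nat.card {x : Cfsg.frobeniusKernel H // ¬ x ≠ ⟨1, one_mem_frobeniusKernel⟩}
        = Nat.card ({⟨1, one_mem_frobeniusKernel⟩} : Set (Cfsg.frobeniusKernel H)) := by
      apply Nat.card_congr
      exact Equiv.subtypeEquivRight (by simp)
    rw [this]; simp
  rw [card_frobeniusKernel hH] at h2
  have h3 : Nat.card (G ⧸ H₀) = H₀.index := rfl
  rw [h3] at h1
  have h4 := H.index_mul_card
  have h5 := H₀.index_mul_card
  have h6 : H₀.index < H.index := by omega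
  have h7 : 0 < Nat.card H₀ := Nat.card_pos
  have : H₀.index * Nat.card H₀ < H.index * Nat.card H :=
    calc H₀.index * Nat.card H₀ < H.index * Nat.card H₀ := Nat.mul_lt_mul_of_pos_right h6 h7
      _ ≤ H.index * Nat.card H := Nat.mul_le_mul_left _ hle
  omega

end Cfsg.Agent.Lib.Helper15
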