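import Mathlib
import Cfsg.Prelude.Def_Solvable
import Cfsg.Agent.Lib.Helper15.FrobThm
import Cfsg.Agent.Lib.Helper15.Frob2
import Cfsg.Agent.Lib.Helper15.FpfInv
import Cfsg.Agent.Lib.Helper5.Card
import Cfsg.Agent.S0039

set_option autoImplicit false

namespace Cfsg.Agent.Lib.Helper15

open Pointwise
open scoped IsMulCommutative

variable {G : Type*} [Group G] {H : Subgroup G}

/-- The Frobenius kernel as a normal complement on which `H` acts fixed-point-freely. -/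
theorem frob_exists_kernel [Finite G] (hH : Cfsg.IsFrobeniusComplement H) :
    ∃ K : Subgroup G, (K : Set G) = Cfsg.frobeniusKernel H ∧ K.Normal ∧
      Subgroup.IsComplement' K H ∧ K ≠ ⊥ ∧
      ∀ h ∈ H, h ≠ 1 → K ⊓ Subgroup.centralizer {h} = ⊥ := by
  obtain ⟨K, hKset, hKn, hKc⟩ := frobenius_theorem hH
  have hK : K ≠ ⊥ := by
    intro e
    rw [e, Subgroup.isComplement'_bot_left] at hKc
    exact hH.2.1 hKc
  exact ⟨K, hKset, hKn, hKc, hK, (Cfsg.Agent.S0039.result K H hKc hK hH.1).mp hH⟩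

/-- A Frobenius complement does not properly contain another Frobenius complement. -/
theorem frob_eq_of_le [Finite G] {H₁ : Subgroup G} (hH : Cfsg.IsFrobeniusComplement H)
    (hH₁ : Cfsg.IsFrobeniusComplement H₁) (hle : H₁ ≤ H) : H₁ = H := by
  classical
  by_contra hne
  have hnle : ¬ H ≤ H₁ := fun h => hne (le_antisymm hle h)
  obtain ⟨d, hdH₁, hd1⟩ : ∃ b ∈ H₁, b ≠ 1 := by
    obtain ⟨b, hb⟩ := Subgroup.ne_bot_iff_exists_ne_one.mp hH₁.1
    exact ⟨(b : G), b.2, fun e => hb (Subtype.ext e)⟩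
  have hD := frob_subgroupOf hH₁ H ⟨d, hle hdH₁, hdH₁, hd1⟩ hnle
  obtain ⟨N', -, hN'n, hN'c, hN'ne, hN'f⟩ := frob_exists_kernel hD
  obtain ⟨K, -, hKn, hKc, hKne, hKf⟩ := frob_exists_kernel hH
  have hHK : H ≤ Subgroup.normalizer (K : Set G) := by
    rw [Subgroup.normalizer_eq_top]; exact le_top
  -- an element of prime order in H₁
  have hcard₁ : Nat.card H₁ ≠ 1 := fun h => hH₁.1 (Subgroup.card_eq_one.mp h)
  have hp : (Nat.card H₁).minFac.Prime := Nat.minFac_prime hcard₁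
  have := Fact.mk hp
  obtain ⟨x', hx'⟩ := exists_prime_orderOf_dvd_card' (G := H₁) _ (Nat.minFac_dvd _)
  obtain ⟨x, hx⟩ : ∃ x : G, x = (x' : G) := ⟨_, rfl⟩
  obtain ⟨p, hpdef⟩ : ∃ p : ℕ, p = (Nat.card H₁).minFac := ⟨_, rfl⟩
  rw [← hpdef] at hp hx'
  have hxH₁ : x ∈ H₁ := by rw [hx]; exact x'.2
  have hxo : orderOf x = p := by rw [hx, Subgroup.orderOf_coe]; exact hx'
  have hx1 : x ≠ 1 := by
    intro e; rw [e, orderOf_one] at hxo; exact hp.one_lt.ne hxo
  obtain ⟨N, hN⟩ : ∃ N : Subgroup G, N = N'.map H.subtype := ⟨_, rfl⟩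
  have hNH : N ≤ H := by rw [hN]; exact Subgroup.map_subtype_le _
  have hNne : N ≠ ⊥ := by
    rw [hN, Ne, Subgroup.map_eq_bot_iff_of_injective _ (Subgroup.subtype_injective H)]
    exact hN'ne
  have hNf : ∀ c ∈ H₁, c ≠ 1 → N ⊓ Subgroup.centralizer {c} = ⊥ := by
    intro c hc hc1
    rw [eq_bot_iff]
    intro n hn
    obtain ⟨hnN, hnC⟩ := Subgroup.mem_inf.mp hn
    rw [hN] at hnN
    obtain ⟨n', hn', rfl⟩ := hnN
    rw [Subgroup.mem_centralizer_singleton_iff] at hnC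
    have h1 : n' ∈ N' ⊓ Subgroup.centralizer {(⟨c, hle hc⟩ : H)} := by
      refine Subgroup.mem_inf.mpr ⟨hn', ?_⟩
      rw [Subgroup.mem_centralizer_singleton_iff]
      exact Subtype.ext hnC
    rw [hN'f ⟨c, hle hc⟩ (Subgroup.mem_subgroupOf.mpr hc) (fun e => hc1 (congrArg Subtype.val e)),
      Subgroup.mem_bot] at h1
    rw [h1]; simp
  have hHN : H ≤ Subgroup.normalizer (N : Set G) := by
    apply le_normalizer_of_forall_conj_mem
    intro h hh n hn
    rw [hN] at hn ⊢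
    obtain ⟨n', hn', rfl⟩ := hn
    exact ⟨_, hN'n.conj_mem n' hn' ⟨h, hh⟩, rfl⟩
  have hNH₁ : ∀ y ∈ N, y ∈ H₁ → y = 1 := by
    intro y hyN hyH₁
    rw [hN] at hyN
    obtain ⟨n', hn', rfl⟩ := hyN
    have := hN'c.disjoint.le_bot ⟨hn', Subgroup.mem_subgroupOf.mpr hyH₁⟩
    rw [Subgroup.mem_bot] at this
    rw [this]; simp
  have hzx : Subgroup.zpowers x ≤ H₁ := (Subgroup.zpowers_le).mpr hxH₁
  have hzxN : Subgroup.zpowers x ≤ Subgroup.normalizer (N : Set G) := hzx.trans (hle.trans hHN)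
  have hzxf : ∀ c ∈ Subgroup.zpowers x, c ≠ 1 → N ⊓ Subgroup.centralizer {c} = ⊥ :=
    fun c hc => hNf c (hzx hc)
  obtain ⟨W, hWN, hWne, hWc, hxW⟩ := exists_invariant_abelian (Subgroup.zpowers x) N hzxN hNne
    (coprime_of_fpf _ N hzxN hzxf) inferInstance
  have hcardW : Nat.card W ≠ 1 := fun h => hWne (Subgroup.card_eq_one.mp h)
  have hr : (Nat.card W).minFac.Prime := Nat.minFac_prime hcardW
  have := Fact.mk hr
  obtain ⟨z', hz'⟩ := exists_prime_orderOf_dvd_card' (G := W) _ (Nat.minFac_dvd _)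
  obtain ⟨z, hz⟩ : ∃ z : G, z = (z' : G) := ⟨_, rfl⟩
  obtain ⟨r, hrdef⟩ : ∃ r : ℕ, r = (Nat.card W).minFac := ⟨_, rfl⟩
  rw [← hrdef] at hr hz'
  have hzW : z ∈ W := by rw [hz]; exact z'.2
  have hzo : orderOf z = r := by rw [hz, Subgroup.orderOf_coe]; exact hz'
  have hz1 : z ≠ 1 := by
    intro e; rw [e, orderOf_one] at hzo; exact hr.one_lt.ne hzo
  have hxzW : x * z * x⁻¹ ∈ W :=
    (Subgroup.mem_normalizer_iff.mp (hxW (Subgroup.mem_zpowers x)) z).mp hzW
  have hcomm : z * (x * z * x⁻¹) = (x * z * x⁻¹) * z := by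
    have := mul_comm' (⟨z, hzW⟩ : W) ⟨_, hxzW⟩
    exact congrArg Subtype.val this
  have hxzo : orderOf (x * z * x⁻¹) = r := by
    rw [← hzo]
    exact orderOf_injective (MulAut.conj x).toMonoidHom (MulAut.conj x).injective z
  have hWH : W ≤ H := hWN.trans hNH
  have hmem : x * z * x⁻¹ ∈ Subgroup.zpowers z :=
    mem_zpowers_of_fpf H K hKne hHK hKf hr (hWH hzW) (hWH hxzW) hcomm hzo hxzo
  have hxnz : Subgroup.zpowers x ≤ Subgroup.normalizer (Subgroup.zpowers z : Set G) := by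
    have h1 : ∀ y ∈ Subgroup.zpowers z, x * y * x⁻¹ ∈ Subgroup.zpowers z := by
      intro y hy
      obtain ⟨k, rfl⟩ := Subgroup.mem_zpowers_iff.mp hy
      have : x * z ^ k * x⁻¹ = (x * z * x⁻¹) ^ k := by
        rw [conj_zpow]
      rw [this]
      exact Subgroup.zpow_mem _ hmem k
    rw [Subgroup.zpowers_le, Subgroup.mem_normalizer_iff]
    -- use finiteness: conjugation maps zpowers z injectively into itself
    have h2 : MulAut.conj x • Subgroup.zpowers z ≤ Subgroup.zpowers z := by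
      intro y hy
      rw [mem_conj_smul_iff] at hy
      have := h1 _ hy
      convert this using 1; group
    have h3 : MulAut.conj x • Subgroup.zpowers z = Subgroup.zpowers z := by
      apply Subgroup.eq_of_le_of_card_ge h2
      exact (Nat.card_congr (Subgroup.equivSMul (MulAut.conj x) (Subgroup.zpowers z)).toEquiv).le
    intro y
    constructor
    · exact h1 y
    · intro hy
      rw [← h3, mem_conj_smul_iff] at hy
      convert hy using 1; group
  have hinf : Subgroup.zpowers x ⊓ Subgroup.zpowers z = ⊥ := by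
    rw [eq_bot_iff]
    intro y hy
    obtain ⟨hy1, hy2⟩ := Subgroup.mem_inf.mp hy
    have hzN : Subgroup.zpowers z ≤ N := (Subgroup.zpowers_le).mpr (hWN hzW)
    exact hNH₁ y (hzN hy2) (hzx hy1)
  have hcardA := Cfsg.Agent.Lib.Helper5.card_sup_mul_card_inf _ _ hxnz
  rw [hinf, Subgroup.card_bot, mul_one, Nat.card_zpowers, Nat.card_zpowers, hxo, hzo] at hcardA
  have hAH : Subgroup.zpowers x ⊔ Subgroup.zpowers z ≤ H :=
    sup_le (hzx.trans hle) ((Subgroup.zpowers_le).mpr (hWH hzW))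
  have hcyc := isCyclic_of_fpf (Subgroup.zpowers x ⊔ Subgroup.zpowers z) K hKne (hAH.trans hHK)
    (fun a ha => hKf a (hAH ha)) (Or.inr ⟨p, r, hp, hr, hcardA⟩)
  have hxz : z * x = x * z := by
    have hxm : x ∈ Subgroup.zpowers x ⊔ Subgroup.zpowers z :=
      Subgroup.mem_sup_left (Subgroup.mem_zpowers x)
    have hzm : z ∈ Subgroup.zpowers x ⊔ Subgroup.zpowers z :=
      Subgroup.mem_sup_right (Subgroup.mem_zpowers z)
    have hmc := hcyc.isMulCommutative
    have := mul_comm' (⟨z, hzm⟩ : ↥(Subgroup.zpowers x ⊔ Subgroup.zpowers z)) ⟨x, hxm⟩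
    exact congrArg Subtype.val this
  have hzbot : z ∈ N ⊓ Subgroup.centralizer {x} := by
    refine Subgroup.mem_inf.mpr ⟨hWN hzW, ?_⟩
    rw [Subgroup.mem_centralizer_singleton_iff]
    exact hxz
  rw [hNf x hxH₁ hx1, Subgroup.mem_bot] at hzbot
  exact hz1 hzbot

/-- S0038: Frobenius complements are conjugate. -/
theorem frob_complements_conj [Finite G] {H₀ : Subgroup G} (hH : Cfsg.IsFrobeniusComplement H)
    (hH₀ : Cfsg.IsFrobeniusComplement H₀) : ∃ g : G, MulAut.conj g • H₀ = H := by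
  rcases le_total (Nat.card H₀) (Nat.card H) with hle | hle
  · obtain ⟨g, hg⟩ := frob_exists_conj_le hH hH₀ hle
    exact ⟨g, frob_eq_of_le hH (frob_conj hH₀ g) hg⟩
  · obtain ⟨g, hg⟩ := frob_exists_conj_le hH₀ hH hle
    have h1 := frob_eq_of_le hH₀ (frob_conj hH g) hg
    refine ⟨g⁻¹, ?_⟩
    rw [← h1, smul_smul, ← map_mul, inv_mul_cancel, map_one, one_smul]

end Cfsg.Agent.Lib.Helper15
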