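import Mathlib
import Cfsg.Prelude.Def_Solvable
import Cfsg.Agent.Lib.Helper15.Frob3

set_option autoImplicit false

namespace Cfsg.Agent.Lib.Helper15

open Pointwise

variable {G : Type*} [Group G] {H : Subgroup G}

/-- A normal complement `K` of a Frobenius complement `H` is the Frobenius kernel. -/
theorem frobeniusKernel_eq_of_isComplement' [Finite G] (K : Subgroup G) [K.Normal]
    (hc : Subgroup.IsComplement' K H) (hH : Cfsg.IsFrobeniusComplement H) :
    Cfsg.frobeniusKernel H = (K : Set G) := by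
  symm
  apply Set.eq_of_subset_of_ncard_le _ _ (Set.toFinite _)
  · intro x hx
    rw [mem_frobeniusKernel_iff]
    by_cases hx1 : x = 1
    · exact Or.inl hx1
    · right
      intro g hg
      apply hx1
      have h1 : g⁻¹ * x * g ∈ K := by
        have := ‹K.Normal›.conj_mem x hx g⁻¹
        simpa using this
      have h2 : g⁻¹ * x * g ∈ K ⊓ H := Subgroup.mem_inf.mpr ⟨h1, hg⟩
      rw [hc.disjoint.eq_bot, Subgroup.mem_bot] at h2
      have : x = g * (g⁻¹ * x * g) * g⁻¹ := by group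
      rw [this, h2]; group
  · rw [← Nat.card_coe_set_eq, ← Nat.card_coe_set_eq, card_frobeniusKernel hH]
    have h1 := hc.card_mul_card
    have h2 := H.card_mul_index
    have h3 : 0 < Nat.card H := Nat.card_pos
    have h4 : Nat.card K * Nat.card H = H.index * Nat.card H := by
      rw [h1, ← h2, mul_comm]
    exact (Nat.eq_of_mul_eq_mul_right h3 h4).symm.le

/-- Normal complement with fixed-point-free action gives a Frobenius group with kernel `K`. -/
theorem frob_of_fpf [Finite G] (K H : Subgroup G) [K.Normal]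
    (hc : Subgroup.IsComplement' K H) (hK : K ≠ ⊥) (hH : H ≠ ⊥)
    (hf : ∀ h ∈ H, h ≠ 1 → K ⊓ Subgroup.centralizer {h} = ⊥) :
    Cfsg.IsFrobeniusComplement H ∧ Cfsg.frobeniusKernel H = (K : Set G) := by
  have h1 := (Cfsg.Agent.S0039.result K H hc hK hH).mpr hf
  exact ⟨h1, frobeniusKernel_eq_of_isComplement' K hc h1⟩

/-- injectivity of `k ↦ k⁻¹ k^r` for a fixed-point-free `r`. -/
theorem fpf_comm_injective (K : Subgroup G) (r : G)
    (hf : K ⊓ Subgroup.centralizer {r} = ⊥) {k l : G} (hk : k ∈ K) (hl : l ∈ K)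
    (h : k⁻¹ * (r * k * r⁻¹) = l⁻¹ * (r * l * r⁻¹)) : k = l := by
  have h1 : l * k⁻¹ ∈ K ⊓ Subgroup.centralizer {r} := by
    refine Subgroup.mem_inf.mpr ⟨K.mul_mem hl (K.inv_mem hk), ?_⟩
    rw [Subgroup.mem_centralizer_singleton_iff]
    have h2 : l * k⁻¹ = r * (l * k⁻¹) * r⁻¹ := by
      calc l * k⁻¹ = l * (k⁻¹ * (r * k * r⁻¹)) * (r * k⁻¹ * r⁻¹) := by group
        _ = l * (l⁻¹ * (r * l * r⁻¹)) * (r * k⁻¹ * r⁻¹) := by rw [h]
        _ = r * (l * k⁻¹) * r⁻¹ := by group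
    calc l * k⁻¹ * r = r * (l * k⁻¹) * r⁻¹ * r := by rw [← h2]
      _ = r * (l * k⁻¹) := by group
  rw [hf, Subgroup.mem_bot] at h1
  exact (mul_inv_eq_one.mp h1).symm

/-- surjectivity of `k ↦ k⁻¹ k^r` for a fixed-point-free `r`. -/
theorem fpf_comm_surjective [Finite G] (K : Subgroup G) (r : G)
    (hr : ∀ k ∈ K, r * k * r⁻¹ ∈ K)
    (hf : K ⊓ Subgroup.centralizer {r} = ⊥) {y : G} (hy : y ∈ K) :
    ∃ k ∈ K, k⁻¹ * (r * k * r⁻¹) = y := by
  let f : K → K := fun k => ⟨(k : G)⁻¹ * (r * k * r⁻¹), K.mul_mem (K.inv_mem k.2) (hr k k.2)⟩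
  have hinj : Function.Injective f := by
    intro k l h
    exact Subtype.ext (fpf_comm_injective K r hf k.2 l.2 (congrArg Subtype.val h))
  obtain ⟨k, hk⟩ := (Finite.injective_iff_surjective.mp hinj) ⟨y, hy⟩
  exact ⟨k, k.2, congrArg Subtype.val hk⟩

end Cfsg.Agent.Lib.Helper15
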