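import Mathlib
import Cfsg.Prelude.Def_Solvable
import Cfsg.Agent.Lib.Helper15.FrobThm
import Cfsg.Agent.Lib.Helper15.FpfSub

set_option autoImplicit false

namespace Cfsg.Agent.Lib.Helper15

open Pointwise

/-- product over a subgroup is fixed by the subgroup -/
theorem prod_subgroup_fixed {F V : Type*} [Group F] [CommGroup V] (φ : F →* MulAut V)
    (Q : Subgroup F) [Fintype Q] (v : V) (b : F) (hb : b ∈ Q) :
    φ b (∏ u : Q, φ (u : F) v) = ∏ u : Q, φ (u : F) v := by
  rw [map_prod]
  exact Fintype.prod_equiv (Equiv.mulLeft (⟨b, hb⟩ : Q)) _ _ (fun u => by simp [map_mul])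

/-- A Frobenius group acting on an abelian group `V` of order prime to the kernel: if neither the
kernel nor the complement has nontrivial fixed points then `V = 1`. -/
theorem frob_fixed_point {F V : Type*} [Group F] [Finite F] [CommGroup V] [Finite V]
    (φ : F →* MulAut V) (H : Subgroup F) (hH : Cfsg.IsFrobeniusComplement H)
    (hcop : (Nat.card V).Coprime (Nat.card (Cfsg.frobeniusKernel H)))
    (hK : ∀ v, (∀ k ∈ Cfsg.frobeniusKernel H, φ k v = v) → v = 1)
    (hHfix : ∀ v, (∀ h ∈ H, φ h v = v) → v = 1) : ∀ v : V, v = 1 := by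
  classical
  intro v
  obtain ⟨K, hKset, -, -⟩ := frobenius_theorem hH
  have : Fintype F := Fintype.ofFinite F
  have : Fintype (F ⧸ H) := Fintype.ofFinite _
  have hmemK : ∀ f : F, f ∈ K ↔ f ∈ Cfsg.frobeniusKernel H := by
    intro f; rw [← hKset]; rfl
  -- (a)
  have ha : ∏ f : F, φ f v = 1 := by
    apply hK
    intro k _
    rw [map_prod]
    exact Fintype.prod_equiv (Equiv.mulLeft k) _ _ (fun u => by simp [map_mul])
  -- (b)
  have hb : ∏ f ∈ Finset.univ.filter (fun f : F => f ∈ Cfsg.frobeniusKernel H), φ f v = 1 := by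
    apply hK
    intro k hk
    rw [map_prod]
    apply Finset.prod_equiv (Equiv.mulLeft k)
    · intro f
      simp only [Finset.mem_filter, Finset.mem_univ, true_and, Equiv.coe_mulLeft, ← hmemK]
      exact (K.mul_mem_cancel_left ((hmemK k).mpr hk)).symm
    · intro f _
      simp [map_mul]
  -- (c)
  have hc : ∀ t : F, ∏ h : H, φ (t * h * t⁻¹) v = 1 := by
    intro t
    have h1 : ∏ h : H, φ (h : F) (φ t⁻¹ v) = 1 := by
      apply hHfix
      intro b hb
      exact prod_subgroup_fixed φ H _ b hb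
    have h2 : ∀ h : H, φ (t * h * t⁻¹) v = φ t (φ (h : F) (φ t⁻¹ v)) := by
      intro h; simp [map_mul]
    simp only [h2]
    rw [← map_prod, h1, map_one]
  have hc' : ∀ t : F, ∏ h : {h : H // h ≠ 1}, φ (t * (h : H) * t⁻¹) v = v⁻¹ := by
    intro t
    have h1 := hc t
    rw [← Finset.mul_prod_erase Finset.univ _ (Finset.mem_univ (1 : H))] at h1
    have h2 : ∏ h ∈ Finset.univ.erase (1 : H), φ (t * h * t⁻¹) v
        = ∏ h : {h : H // h ≠ 1}, φ (t * (h : H) * t⁻¹) v := by
      apply Finset.prod_subtype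
      intro x; simp
    rw [h2] at h1
    have h3 : φ (t * ((1 : H) : F) * t⁻¹) v = v := by simp
    rw [h3] at h1
    exact eq_inv_of_mul_eq_one_right h1
  -- (e)
  have he : ∏ f ∈ Finset.univ.filter (fun f : F => f ∉ Cfsg.frobeniusKernel H), φ f v
      = (v⁻¹) ^ H.index := by
    have h1 : ∏ f ∈ Finset.univ.filter (fun f : F => f ∉ Cfsg.frobeniusKernel H), φ f v
        = ∏ x : {x : F // x ∉ Cfsg.frobeniusKernel H}, φ (x : F) v := by
      apply Finset.prod_subtype
      intro x; simp
    rw [h1, ← Equiv.prod_comp (frobEquiv hH), Fintype.prod_prod_type]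
    have h2 : ∀ (q : F ⧸ H) (h : {h : H // h ≠ 1}),
        φ ((frobEquiv hH (q, h) : {x : F // x ∉ Cfsg.frobeniusKernel H}) : F) v
        = φ (q.out * (h : H) * q.out⁻¹) v := fun _ _ => rfl
    simp only [h2, hc']
    rw [Finset.prod_const, Finset.card_univ, ← Nat.card_eq_fintype_card]
    rfl
  have hsplit := Finset.prod_filter_mul_prod_filter_not Finset.univ
    (fun f : F => f ∈ Cfsg.frobeniusKernel H) (fun f => φ f v)
  rw [ha, hb, he, one_mul, inv_pow, inv_eq_one] at hsplit
  have h2 : orderOf v ∣ H.index := orderOf_dvd_of_pow_eq_one hsplit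
  rw [← card_frobeniusKernel hH] at h2
  have h3 : orderOf v ∣ Nat.card V := orderOf_dvd_natCard v
  exact orderOf_eq_one_iff.mp (Nat.eq_one_of_dvd_coprimes hcop h3 h2)

end Cfsg.Agent.Lib.Helper15
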