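import Mathlib
import Cfsg.Prelude.Def_Solvable
import Cfsg.Agent.Lib.Helper15.Frob4
import Cfsg.Agent.Lib.Helper1.Coprime
import Cfsg.Agent.S0666
import Cfsg.Agent.S0055

set_option autoImplicit false

namespace Cfsg.Agent.Lib.Helper15

open Pointwise
open scoped commutatorElement

universe u

variable {G : Type*} [Group G]

/-- `N ⋊ H` inside an ambient group is a Frobenius group when `H` acts fixed-point-freely. -/
theorem frob_sup [Finite G] (N H : Subgroup G) (hHN : H ≤ Subgroup.normalizer (N : Set G))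
    (hN : N ≠ ⊥) (hH : H ≠ ⊥) (hf : ∀ h ∈ H, h ≠ 1 → N ⊓ Subgroup.centralizer {h} = ⊥) :
    Cfsg.IsFrobeniusComplement (H.subgroupOf (N ⊔ H)) ∧
      Cfsg.frobeniusKernel (H.subgroupOf (N ⊔ H)) = (N.subgroupOf (N ⊔ H) : Set ↥(N ⊔ H)) := by
  have hNL : N ≤ N ⊔ H := le_sup_left
  have hHL : H ≤ N ⊔ H := le_sup_right
  have hdisj : ∀ x, x ∈ N → x ∈ H → x = 1 := by
    intro x hxN hxH
    by_contra hx1
    have h1 : x ∈ N ⊓ Subgroup.centralizer {x} := by
      refine Subgroup.mem_inf.mpr ⟨hxN, ?_⟩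
      rw [Subgroup.mem_centralizer_singleton_iff]
    rw [hf x hxH hx1, Subgroup.mem_bot] at h1
    exact hx1 h1
  have hn : (N.subgroupOf (N ⊔ H)).Normal :=
    Subgroup.normal_subgroupOf_of_le_normalizer (sup_le Subgroup.le_normalizer hHN)
  apply frob_of_fpf
  · apply Subgroup.isComplement'_of_disjoint_and_mul_eq_univ
    · rw [Subgroup.disjoint_def]
      intro x hxN hxH
      apply Subtype.ext
      exact hdisj _ (Subgroup.mem_subgroupOf.mp hxN) (Subgroup.mem_subgroupOf.mp hxH)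
    · rw [← Subgroup.normal_mul, ← Subgroup.subgroupOf_sup hNL hHL, Subgroup.subgroupOf_self]
      rfl
  · rw [Ne, Subgroup.subgroupOf_eq_bot, disjoint_iff, inf_eq_left.mpr hNL]
    exact hN
  · rw [Ne, Subgroup.subgroupOf_eq_bot, disjoint_iff, inf_eq_left.mpr hHL]
    exact hH
  · intro h hh hh1
    rw [eq_bot_iff]
    intro n hn
    obtain ⟨hnN, hnC⟩ := Subgroup.mem_inf.mp hn
    rw [Subgroup.mem_centralizer_singleton_iff] at hnC
    rw [Subgroup.mem_subgroupOf] at hnN hh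
    have h1 : (n : G) ∈ N ⊓ Subgroup.centralizer {(h : G)} := by
      refine Subgroup.mem_inf.mpr ⟨hnN, ?_⟩
      rw [Subgroup.mem_centralizer_singleton_iff]
      exact congrArg Subtype.val hnC
    rw [hf h hh (fun e => hh1 (Subtype.ext e)), Subgroup.mem_bot] at h1
    rw [Subgroup.mem_bot]
    exact Subtype.ext h1

/-- every nonidentity power of an element of prime order has the same fixed points -/
theorem fpf_zpowers_of_prime (K : Subgroup G) (a : G) (p : ℕ) (hp : p.Prime) (hap : a ^ p = 1)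
    (hfix : K ⊓ Subgroup.centralizer {a} = ⊥) :
    ∀ b ∈ Subgroup.zpowers a, b ≠ 1 → K ⊓ Subgroup.centralizer {b} = ⊥ := by
  intro b hb hb1
  have ha1 : a ≠ 1 := by
    rintro rfl
    rw [Subgroup.zpowers_one_eq_bot, Subgroup.mem_bot] at hb
    exact hb1 hb
  have := Fact.mk hp
  have ho : orderOf a = p := orderOf_eq_prime hap ha1
  have hcard : Nat.card (Subgroup.zpowers a) = p := by rw [Nat.card_zpowers, ho]
  have h1 : (⟨a, Subgroup.mem_zpowers a⟩ : Subgroup.zpowers a) ∈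
      Subgroup.zpowers (⟨b, hb⟩ : Subgroup.zpowers a) :=
    mem_zpowers_of_prime_card hcard (fun e => hb1 (congrArg Subtype.val e))
  obtain ⟨k, hk⟩ := Subgroup.mem_zpowers_iff.mp h1
  have hk' : b ^ k = a := congrArg Subtype.val hk
  rw [eq_bot_iff, ← hfix]
  apply inf_le_inf_left
  intro c hc
  rw [Subgroup.mem_centralizer_singleton_iff] at hc ⊢
  rw [← hk']
  exact ((Commute.zpow_right (show Commute c b from hc) k)).eq

/-- If `A` acts fixed-point-freely on `Q` and without fixed points on the abelian group `N` of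
order prime to `Q`, everything inside a common group with `Q` normalising `N`, then `Q`
centralises `N`. -/
theorem centralizes_of_fpf [Finite G] (A N Q : Subgroup G) [hNc : IsMulCommutative N] (hA : A ≠ ⊥)
    (hAN : A ≤ Subgroup.normalizer (N : Set G)) (hAQ : A ≤ Subgroup.normalizer (Q : Set G))
    (hQN : Q ≤ Subgroup.normalizer (N : Set G)) (hcop : (Nat.card Q).Coprime (Nat.card N))
    (hfQ : ∀ b ∈ A, b ≠ 1 → Q ⊓ Subgroup.centralizer {b} = ⊥)
    (hfN : N ⊓ Subgroup.centralizer (A : Set G) = ⊥) : Q ≤ Subgroup.centralizer (N : Set G) := by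
  by_cases hQ : Q = ⊥
  · rw [hQ]; exact bot_le
  obtain ⟨hFr, hker⟩ := frob_sup Q A hAQ hQ hA hfQ
  obtain ⟨hW1, -⟩ := Cfsg.Agent.S0055.result Q N hQN hcop
  have hWN : ⁅N, Q⁆ ≤ N := by
    rw [Subgroup.commutator_le]
    intro n hn q hq
    have h1 := (Subgroup.mem_normalizer_iff.mp (hQN hq) n⁻¹).mp (N.inv_mem hn)
    have : ⁅n, q⁆ = n * (q * n⁻¹ * q⁻¹) := by
      rw [commutatorElement_def]; group
    rw [this]
    exact N.mul_mem hn h1
  by_contra hcon
  have hWne : ⁅N, Q⁆ ≠ ⊥ := by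
    intro e
    apply hcon
    rw [Subgroup.commutator_eq_bot_iff_le_centralizer] at e
    rw [Subgroup.le_centralizer_iff]
    exact e
  have hWc : IsMulCommutative (⁅N, Q⁆ : Subgroup G) := by
    refine ⟨⟨?_⟩⟩
    intro x y
    apply Subtype.ext
    have := congrArg Subtype.val (hNc.is_comm.comm ⟨x, hWN x.2⟩ ⟨y, hWN y.2⟩)
    exact this
  have hFW : Q ⊔ A ≤ Subgroup.normalizer ((⁅N, Q⁆ : Subgroup G) : Set G) :=
    Cfsg.Agent.Lib.Helper1.le_normalizer_commutator (sup_le hQN hAN)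
      (sup_le Subgroup.le_normalizer hAQ)
  have himg : (Subtype.val '' Cfsg.frobeniusKernel (A.subgroupOf (Q ⊔ A)) : Set G) = (Q : Set G) := by
    rw [hker]
    ext x
    constructor
    · rintro ⟨y, hy, rfl⟩
      exact Subgroup.mem_subgroupOf.mp hy
    · intro hx
      exact ⟨⟨x, (le_sup_left : Q ≤ Q ⊔ A) hx⟩, Subgroup.mem_subgroupOf.mpr hx, rfl⟩
  have hcardker : Nat.card (Cfsg.frobeniusKernel (A.subgroupOf (Q ⊔ A))) = Nat.card Q := by
    rw [hker]
    exact Nat.card_congr (Subgroup.subgroupOfEquivOfLe (le_sup_left : Q ≤ Q ⊔ A)).toEquiv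
  have key := Cfsg.Agent.S0666.result (⁅N, Q⁆ : Subgroup G) (Q ⊔ A) hWc hWne hFW (A.subgroupOf (Q ⊔ A)) hFr
    (by
      rw [hcardker]
      exact (Nat.Coprime.coprime_dvd_right (Subgroup.card_dvd_of_le hWN) hcop).symm)
    (by
      rw [himg, eq_bot_iff, ← hW1]
      intro x hx
      obtain ⟨h1, h2⟩ := Subgroup.mem_inf.mp hx
      exact Subgroup.mem_inf.mpr ⟨Subgroup.mem_inf.mpr ⟨hWN h1, h2⟩, h1⟩)
  apply key
  rw [Subgroup.map_subgroupOf_eq_of_le (le_sup_right : A ≤ Q ⊔ A), eq_bot_iff, ← hfN]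
  exact inf_le_inf_right _ hWN

end Cfsg.Agent.Lib.Helper15
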