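import Mathlib
import Cfsg.Prelude.Def_Solvable
import Cfsg.Agent.Lib.Helper15.Thompson1
import Cfsg.Agent.Lib.Helper2.GrpNil
import Cfsg.Agent.S0071

set_option autoImplicit false

namespace Cfsg.Agent.Lib.Helper15

open Pointwise
open scoped commutatorElement

universe u

/-- passing to the quotient by an invariant normal subgroup -/
theorem exists_quotient_data {X : Type u} [Group X] [Finite X] (K M : Subgroup X) (a : X) (p : ℕ)
    (hap : a ^ p = 1) (haK : a ∈ Subgroup.normalizer (K : Set X))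
    (hfix : K ⊓ Subgroup.centralizer {a} = ⊥)
    (hMK : M ≤ K) (hKM : K ≤ Subgroup.normalizer (M : Set X))
    (haM : a ∈ Subgroup.normalizer (M : Set X)) :
    ∃ (X' : Type u) (_ : Group X') (_ : Finite X') (K' : Subgroup X') (a' : X') (f : K →* K'),
      a' ^ p = 1 ∧ a' ∈ Subgroup.normalizer (K' : Set X') ∧ K' ⊓ Subgroup.centralizer {a'} = ⊥ ∧
      Function.Surjective f ∧ f.ker = M.subgroupOf K := by
  let Y : Subgroup X := Subgroup.normalizer (M : Set X)
  let M' : Subgroup Y := M.subgroupOf Y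
  have hM'n : M'.Normal := Subgroup.normal_in_normalizer
  let π : Y →* Y ⧸ M' := QuotientGroup.mk' M'
  let K₁ : Subgroup Y := K.subgroupOf Y
  let K' : Subgroup (Y ⧸ M') := K₁.map π
  let a₁ : Y := ⟨a, haM⟩
  have hmemK' : ∀ k : K, π (Subgroup.inclusion hKM k) ∈ K' := by
    intro k
    exact ⟨Subgroup.inclusion hKM k, Subgroup.mem_subgroupOf.mpr k.2, rfl⟩
  let f : K →* K' := (π.comp (Subgroup.inclusion hKM)).codRestrict K' hmemK'
  have hπ1 : ∀ y : Y, π y = 1 ↔ (y : X) ∈ M := by
    intro y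
    rw [show π y = (QuotientGroup.mk y : Y ⧸ M') from rfl, QuotientGroup.eq_one_iff]
    exact Subgroup.mem_subgroupOf
  have haconjK : ∀ k ∈ K, a * k * a⁻¹ ∈ K := fun k hk => (Subgroup.mem_normalizer_iff.mp haK k).mp hk
  have haconjM : ∀ k ∈ M, a * k * a⁻¹ ∈ M := fun k hk => (Subgroup.mem_normalizer_iff.mp haM k).mp hk
  refine ⟨Y ⧸ M', inferInstance, inferInstance, K', π a₁, f, ?_, ?_, ?_, ?_, ?_⟩
  · rw [← map_pow]
    have : a₁ ^ p = 1 := Subtype.ext (by simpa using hap)
    rw [this, map_one]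
  · have h1 : Subgroup.zpowers (π a₁) ≤ Subgroup.normalizer (K' : Set (Y ⧸ M')) := by
      apply le_normalizer_of_forall_conj_mem
      intro b hb x hx
      obtain ⟨k, rfl⟩ := Subgroup.mem_zpowers_iff.mp hb
      obtain ⟨z, hz, rfl⟩ := hx
      rw [← map_zpow, ← map_inv, ← map_mul, ← map_mul]
      refine ⟨_, ?_, rfl⟩
      apply Subgroup.mem_subgroupOf.mpr
      have h2 : a ^ k ∈ Subgroup.normalizer (K : Set X) := Subgroup.zpow_mem _ haK k
      have h3 := (Subgroup.mem_normalizer_iff.mp h2 (z : X)).mp (Subgroup.mem_subgroupOf.mp hz)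
      simpa using h3
    exact h1 (Subgroup.mem_zpowers _)
  · rw [eq_bot_iff]
    intro y hy
    obtain ⟨hyK, hyC⟩ := Subgroup.mem_inf.mp hy
    obtain ⟨z, hz, rfl⟩ := hyK
    rw [Subgroup.mem_centralizer_singleton_iff] at hyC
    have hzK : (z : X) ∈ K := Subgroup.mem_subgroupOf.mp hz
    have h1 : π (z⁻¹ * (a₁ * z * a₁⁻¹)) = 1 := by
      simp only [map_mul, map_inv]
      rw [← hyC]; group
    rw [hπ1] at h1
    have h1' : (z : X)⁻¹ * (a * z * a⁻¹) ∈ M := by simpa using h1
    have hMf : M ⊓ Subgroup.centralizer {a} = ⊥ := by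
      rw [eq_bot_iff, ← hfix]
      exact inf_le_inf_right _ hMK
    obtain ⟨m, hm, hm'⟩ := fpf_comm_surjective M a haconjM hMf h1'
    have h3 := fpf_comm_injective K a hfix (hMK hm) hzK hm'
    rw [Subgroup.mem_bot, hπ1, ← h3]
    exact hm
  · rintro ⟨y, z, hz, rfl⟩
    refine ⟨⟨z, Subgroup.mem_subgroupOf.mp hz⟩, ?_⟩
    apply Subtype.ext
    rfl
  · ext k
    rw [MonoidHom.mem_ker, Subgroup.mem_subgroupOf]
    constructor
    · intro h
      have h1 : π (Subgroup.inclusion hKM k) = 1 := congrArg Subtype.val h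
      rw [hπ1] at h1
      exact h1
    · intro h
      apply Subtype.ext
      exact (hπ1 (Subgroup.inclusion hKM k)).mpr h

/-- a finite nilpotent group has a normal `p`-complement -/
theorem hasNormalPComplement_of_isNilpotent {G : Type*} [Group G] [Finite G] (p : ℕ) [Fact p.Prime]
    (hG : Group.IsNilpotent G) : Cfsg.HasNormalPComplement p G := by
  obtain ⟨P⟩ : Nonempty (Sylow p G) := inferInstance
  obtain ⟨N, hN, hc⟩ := (Cfsg.Agent.S0071.result P).2 (by
    intro Q hQ g _ hgo
    rw [Subgroup.mem_centralizer_iff]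
    intro x hx
    obtain ⟨k, hk⟩ := (IsPGroup.iff_orderOf.mp P.2) ⟨x, hQ hx⟩
    rw [Subgroup.orderOf_mk] at hk
    have h1 : (orderOf x).Coprime (orderOf g) := by
      rw [hk]
      exact (Nat.Coprime.pow_right k hgo).symm
    exact (Cfsg.Agent.Lib.Helper2.commute_of_coprime_of_isNilpotent h1).eq)
  exact ⟨P, N, hN, hc⟩

/-- In an extension with nilpotent quotient, `P · ker` is normal for each Sylow subgroup `P`. -/
theorem sylow_sup_ker_normal {G G' : Type*} [Group G] [Finite G] [Group G'] [Finite G']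
    (f : G →* G') (hf : Function.Surjective f) (hG' : Group.IsNilpotent G')
    (q : ℕ) [Fact q.Prime] (P : Sylow q G) : ((P : Subgroup G) ⊔ f.ker).Normal := by
  have h1 : ((P.mapSurjective hf : Sylow q G') : Subgroup G').Normal :=
    ((Group.isNilpotent_of_finite_tfae (G := G')).out 0 3 rfl rfl).mp hG' q inferInstance _
  have h2 : ((P.mapSurjective hf : Sylow q G') : Subgroup G') = (P : Subgroup G).map f := rfl
  rw [h2] at h1
  rw [← Subgroup.comap_map_eq]
  exact h1.comap f

/-- A Sylow subgroup normal in a normal subgroup is normal. -/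
theorem sylow_normal_of_le_normal {G : Type*} [Group G] [Finite G] (q : ℕ) [Fact q.Prime]
    (P : Sylow q G) (B : Subgroup G) (hB : B.Normal) (hPB : (P : Subgroup G) ≤ B)
    (hBP : B ≤ Subgroup.normalizer ((P : Subgroup G) : Set G)) : (P : Subgroup G).Normal := by
  have hn : ((P.subtype hPB : Sylow q B) : Subgroup B).Normal := by
    rw [Sylow.coe_subtype]
    exact Subgroup.normal_subgroupOf_of_le_normalizer hBP
  have hc := Sylow.characteristic_of_normal (P.subtype hPB) hn
  have h3 : (((P.subtype hPB : Sylow q B) : Subgroup B).map B.subtype).Normal :=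
    ConjAct.normal_of_characteristic_of_normal
  rw [Sylow.coe_subtype, Subgroup.map_subgroupOf_eq_of_le hPB] at h3
  exact h3

/-- nilpotency from one normal Sylow subgroup for each prime -/
theorem isNilpotent_of_exists_normal_sylow {G : Type*} [Group G] [Finite G]
    (h : ∀ (q : ℕ) [Fact q.Prime], ∃ P : Sylow q G, (P : Subgroup G).Normal) :
    Group.IsNilpotent G := by
  apply ((Group.isNilpotent_of_finite_tfae (G := G)).out 0 3 rfl rfl).mpr
  intro q _ P
  obtain ⟨P', hP'⟩ := h q
  obtain ⟨g, hg⟩ := MulAction.exists_smul_eq G P' P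
  rw [Sylow.smul_eq_of_normal] at hg
  rw [← hg]
  exact hP'

end Cfsg.Agent.Lib.Helper15
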