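import Mathlib
import Cfsg.Prelude.Def_Solvable
import Cfsg.Agent.Lib.Helper15.Thompson2
import Cfsg.Agent.Lib.Helper15.FpfInv
import Cfsg.Agent.Lib.Helper1.Basic
import Cfsg.Agent.S0023

set_option autoImplicit false

namespace Cfsg.Agent.Lib.Helper15

open Pointwise
open scoped commutatorElement

universe u

/-- The solvable case of Thompson's theorem, given nilpotency of proper invariant quotients. -/
theorem thompson_stepB {X : Type u} [Group X] [Finite X] (p : ℕ) (hp : p.Prime) (K : Subgroup X)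
    (a : X) (hap : a ^ p = 1) (haK : a ∈ Subgroup.normalizer (K : Set X))
    (hfix : K ⊓ Subgroup.centralizer {a} = ⊥) (hsolv : Group.IsSolvable K)
    (ihq : ∀ M : Subgroup X, M ≤ K → M ≠ ⊥ → K ≤ Subgroup.normalizer (M : Set X) →
      a ∈ Subgroup.normalizer (M : Set X) →
      ∃ (G' : Type u) (_ : Group G') (_ : Finite G') (f : K →* G'), Function.Surjective f ∧
        f.ker = M.subgroupOf K ∧ Group.IsNilpotent G') :
    Group.IsNilpotent K := by
  by_cases hK : K = ⊥
  · subst hK; infer_instance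
  have ha1 : a ≠ 1 := by
    rintro rfl
    apply hK
    rw [eq_bot_iff, ← hfix]
    intro x hx
    refine Subgroup.mem_inf.mpr ⟨hx, ?_⟩
    rw [Subgroup.mem_centralizer_singleton_iff]; simp
  obtain ⟨A, hAdef⟩ : ∃ A : Subgroup X, A = Subgroup.zpowers a := ⟨_, rfl⟩
  have haA : a ∈ A := by rw [hAdef]; exact Subgroup.mem_zpowers a
  have hAne : A ≠ ⊥ := by rw [hAdef, Ne, Subgroup.zpowers_eq_bot]; exact ha1
  have hAK : A ≤ Subgroup.normalizer (K : Set X) := by
    rw [hAdef]; exact Subgroup.zpowers_le.mpr haK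
  have hfA : ∀ b ∈ A, b ≠ 1 → K ⊓ Subgroup.centralizer {b} = ⊥ := by
    rw [hAdef]; exact fpf_zpowers_of_prime K a p hp hap hfix
  have hcop := coprime_of_fpf A K hAK hfA
  have hAsolv : Group.IsSolvable A := by
    rw [hAdef]
    apply Group.isSolvable_of_comm
    intro x y
    exact (IsCyclic.isMulCommutative (α := Subgroup.zpowers a)).is_comm.comm x y
  have : Nontrivial K := (Subgroup.nontrivial_iff_ne_bot K).mpr hK
  obtain ⟨r, hr, N₀, hchar, hNr, hNne, hNcomm⟩ :=
    Cfsg.Agent.Lib.Helper1.exists_char_pSubgroup_of_solvable K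
  have := Fact.mk hr
  have hN₀n : N₀.Normal := inferInstance
  obtain ⟨N, hNdef⟩ : ∃ N : Subgroup X, N = N₀.map K.subtype := ⟨_, rfl⟩
  have hNK : N ≤ K := by rw [hNdef]; exact Subgroup.map_subtype_le _
  have hNne' : N ≠ ⊥ := by
    rw [hNdef, Ne, Subgroup.map_eq_bot_iff_of_injective _ K.subtype_injective]
    exact hNne
  have hKN : K ≤ Subgroup.normalizer (N : Set X) := by
    apply le_normalizer_of_forall_conj_mem
    intro k hk x hx
    rw [hNdef] at hx ⊢
    obtain ⟨n, hn, rfl⟩ := hx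
    exact ⟨⟨k, hk⟩ * n * ⟨k, hk⟩⁻¹, hN₀n.conj_mem n hn ⟨k, hk⟩, rfl⟩
  have hAN : A ≤ Subgroup.normalizer (N : Set X) := by
    apply le_normalizer_of_forall_conj_mem
    intro b hb x hx
    rw [hNdef] at hx ⊢
    obtain ⟨n, hn, rfl⟩ := hx
    refine ⟨conjAct A K hAK ⟨b, hb⟩ n, ?_, rfl⟩
    have h1 := hchar.fixed (conjAct A K hAK ⟨b, hb⟩)
    rw [← h1] at hn
    exact hn
  have hNc : IsMulCommutative N := by
    refine ⟨⟨?_⟩⟩
    rintro ⟨x, hx⟩ ⟨y, hy⟩
    apply Subtype.ext
    rw [hNdef] at hx hy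
    obtain ⟨n, hn, rfl⟩ := hx
    obtain ⟨m, hm, rfl⟩ := hy
    have h1 : n * m = m * n := congrArg Subtype.val (hNcomm.is_comm.comm ⟨n, hn⟩ ⟨m, hm⟩)
    have h2 : (n : X) * m = m * n := congrArg Subtype.val h1
    exact h2
  have hNr' : IsPGroup r N := by rw [hNdef]; exact hNr.map _
  obtain ⟨G', _, _, f, hf, hker, hnil⟩ := ihq N hNK hNne' hKN (hAN haA)
  have hker' : f.ker = N₀ := by
    rw [hker, hNdef]
    exact Subgroup.comap_map_eq_self_of_injective K.subtype_injective N₀
  apply isNilpotent_of_exists_normal_sylow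
  intro q _
  obtain ⟨P, hP⟩ := Cfsg.Agent.S0023.result A K hAK hcop (Or.inl hAsolv) q
  refine ⟨P, ?_⟩
  have hB := sylow_sup_ker_normal f hf hnil q P
  rw [hker'] at hB
  by_cases hqr : q = r
  · subst hqr
    have hle : N₀ ≤ P := by
      obtain ⟨P', hP'⟩ := hNr.exists_le_sylow
      obtain ⟨g, hg⟩ := MulAction.exists_smul_eq K P' P
      intro x hx
      rw [← hg, Sylow.coe_subgroup_smul, mem_conj_smul_iff]
      apply hP'
      have := hN₀n.conj_mem x hx g⁻¹
      simpa using this
    rw [sup_eq_left.mpr hle] at hB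
    exact hB
  · apply sylow_normal_of_le_normal q P _ hB le_sup_left
    apply sup_le Subgroup.le_normalizer
    have hQK : (P : Subgroup K).map K.subtype ≤ K := Subgroup.map_subtype_le _
    have hcent : (P : Subgroup K).map K.subtype ≤ Subgroup.centralizer (N : Set X) := by
      apply centralizes_of_fpf A N _ hAne hAN hP (hQK.trans hKN)
      · exact IsPGroup.coprime_card_of_ne q r hqr _ _ (P.2.map _) hNr'
      · intro b hb hb1
        rw [eq_bot_iff, ← hfA b hb hb1]
        exact inf_le_inf_right _ hQK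
      · rw [eq_bot_iff, ← hfix]
        apply inf_le_inf hNK
        apply Subgroup.centralizer_le
        intro x hx
        rw [Set.mem_singleton_iff] at hx
        rw [hx]; exact haA
    refine le_trans ?_ (Subgroup.centralizer_le_normalizer _)
    intro n hn
    rw [Subgroup.mem_centralizer_iff]
    intro x hx
    have h1 : (x : X) ∈ Subgroup.centralizer (N : Set X) := hcent ⟨x, hx, rfl⟩
    rw [Subgroup.mem_centralizer_iff] at h1
    have h2 := h1 (n : X) (by rw [hNdef]; exact ⟨n, hn, rfl⟩)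
    exact Subtype.ext h2.symm

end Cfsg.Agent.Lib.Helper15
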