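import Mathlib
import Cfsg.Prelude.Def_Solvable
import Cfsg.Agent.Lib.Helper15.Thompson3
import Cfsg.Agent.Lib.Helper5.ZJ3
import Cfsg.Agent.Lib.Helper5.ZJFun
import Cfsg.Agent.Lib.Helper13.Frobenius
import Cfsg.Agent.Lib.Lead.PRes
import Cfsg.Agent.S0659

set_option autoImplicit false

namespace Cfsg.Agent.Lib.Helper15

open Pointwise
open scoped commutatorElement

universe u

/-- Reduction to the solvable case of Thompson's theorem via Glauberman's `ZJ` theorem. -/
theorem thompson_stepC {X : Type u} [Group X] [Finite X] (p : ℕ) (hp : p.Prime) (K : Subgroup X)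
    (a : X) (hap : a ^ p = 1) (haK : a ∈ Subgroup.normalizer (K : Set X))
    (hfix : K ⊓ Subgroup.centralizer {a} = ⊥)
    (ihs : ∀ M : Subgroup X, M ≤ K → M ≠ K → a ∈ Subgroup.normalizer (M : Set X) →
      Group.IsNilpotent M)
    (ihq : ∀ M : Subgroup X, M ≤ K → M ≠ ⊥ → K ≤ Subgroup.normalizer (M : Set X) →
      a ∈ Subgroup.normalizer (M : Set X) →
      ∃ (G' : Type u) (_ : Group G') (_ : Finite G') (f : K →* G'), Function.Surjective f ∧
        f.ker = M.subgroupOf K ∧ Group.IsNilpotent G') :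
    Group.IsSolvable K := by
  by_cases hK : K = ⊥
  · subst hK; infer_instance
  have ha1 : a ≠ 1 := by
    rintro rfl
    apply hK
    rw [eq_bot_iff, ← hfix]
    intro x hx
    refine Subgroup.mem_inf.mpr ⟨hx, ?_⟩
    rw [Subgroup.mem_centralizer_singleton_iff]; simp
  obtain ⟨A, hAdef⟩ : ∃ A : Subgroup X, A = Subgroup.zpowers a := ⟨_, rfl⟩
  have haA : a ∈ A := by rw [hAdef]; exact Subgroup.mem_zpowers a
  have hAK : A ≤ Subgroup.normalizer (K : Set X) := by
    rw [hAdef]; exact Subgroup.zpowers_le.mpr haK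
  have hfA : ∀ b ∈ A, b ≠ 1 → K ⊓ Subgroup.centralizer {b} = ⊥ := by
    rw [hAdef]; exact fpf_zpowers_of_prime K a p hp hap hfix
  have hcop := coprime_of_fpf A K hAK hfA
  have hAsolv : Group.IsSolvable A := by
    rw [hAdef]
    apply Group.isSolvable_of_comm
    intro x y
    exact (IsCyclic.isMulCommutative (α := Subgroup.zpowers a)).is_comm.comm x y
  by_cases h2 : ∃ q : ℕ, q.Prime ∧ q ≠ 2 ∧ q ∣ Nat.card K
  swap
  · push Not at h2
    have h3 : Nat.card K = 2 ^ (Nat.card K).primeFactorsList.length := by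
      apply Nat.eq_prime_pow_of_unique_prime_dvd Nat.card_pos.ne'
      intro d hd hdK
      by_contra hd2
      exact h2 d hd hd2 hdK
    have := Fact.mk Nat.prime_two
    exact Cfsg.Agent.Lib.Helper1.isSolvable_of_isPGroup (IsPGroup.of_card h3)
  obtain ⟨q, hq, hq2, hqd⟩ := h2
  have := Fact.mk hq
  obtain ⟨P, hP⟩ := Cfsg.Agent.S0023.result A K hAK hcop (Or.inl hAsolv) q
  -- the automorphisms induced by `A`
  have hτ : ∀ (b : A) (x : K), ((conjAct A K hAK b x : K) : X) = b * x * (b : X)⁻¹ := fun _ _ => rfl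
  have hPτ : ∀ b : A, (P : Subgroup K).map (conjAct A K hAK b).toMonoidHom = P := by
    intro b
    apply Subgroup.eq_of_le_of_card_ge
    · rintro _ ⟨x, hx, rfl⟩
      have h := (Subgroup.mem_normalizer_iff.mp (hP b.2) (x : X)).mp ⟨x, hx, rfl⟩
      obtain ⟨y, hy, hyx⟩ := h
      have : (conjAct A K hAK b).toMonoidHom x = y := Subtype.ext hyx.symm
      rw [this]; exact hy
    · have hinj : Function.Injective (conjAct A K hAK b).toMonoidHom :=
        (conjAct A K hAK b).injective
      rw [Subgroup.card_map_of_injective hinj]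
  obtain ⟨Z, hZdef⟩ : ∃ Z : Subgroup K, Z = Cfsg.centerThompsonAOf (P : Subgroup K) := ⟨_, rfl⟩
  have hZτ : ∀ b : A, Z.map (conjAct A K hAK b).toMonoidHom = Z := by
    intro b
    have h := Cfsg.Agent.Lib.Helper5.centerThompsonAOf_map (conjAct A K hAK b).toMonoidHom
      (P : Subgroup K) (by
        have hinj : Function.Injective (conjAct A K hAK b).toMonoidHom :=
          (conjAct A K hAK b).injective
        rw [(MonoidHom.ker_eq_bot_iff _).mpr hinj, inf_bot_eq])
    rw [hPτ b] at h
    rw [hZdef]; exact h.symm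
  have hZP : Z ≤ P := by
    rw [hZdef]
    exact inf_le_left.trans (Subgroup.map_subtype_le _)
  have hPne : (P : Subgroup K) ≠ ⊥ := P.ne_bot_of_dvd_card hqd
  have hZne : Z ≠ ⊥ := by
    rw [hZdef, Cfsg.Agent.Lib.Helper5.centerThompsonAOf_eq_map, Ne,
      Subgroup.map_eq_bot_iff_of_injective _ (Subgroup.subtype_injective _)]
    intro e
    have : Nontrivial (P : Subgroup K) := (Subgroup.nontrivial_iff_ne_bot _).mpr hPne
    have h1 := P.2.center_nontrivial
    have h2 : Subgroup.center (P : Subgroup K) ≤ ⊥ := by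
      rw [← e]; exact Cfsg.Agent.Lib.Helper5.center_le_zjA
    rw [le_bot_iff] at h2
    rw [Subgroup.nontrivial_iff_ne_bot] at h1
    exact h1 h2
  have hmapA : ∀ U : Subgroup K, (∀ b : A, U.map (conjAct A K hAK b).toMonoidHom ≤ U) →
      a ∈ Subgroup.normalizer ((U.map K.subtype : Subgroup X) : Set X) := by
    intro U hU
    have h1 : A ≤ Subgroup.normalizer ((U.map K.subtype : Subgroup X) : Set X) := by
      apply le_normalizer_of_forall_conj_mem
      rintro b hb _ ⟨x, hx, rfl⟩
      exact ⟨conjAct A K hAK ⟨b, hb⟩ x, hU ⟨b, hb⟩ ⟨x, hx, rfl⟩, rfl⟩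
    exact h1 haA
  have hmapne : ∀ U : Subgroup K, U ≠ ⊤ → U.map K.subtype ≠ K := by
    intro U hU e
    apply hU
    rw [eq_top_iff]
    intro x _
    have h1 : (x : X) ∈ U.map K.subtype := by rw [e]; exact x.2
    obtain ⟨y, hy, hyx⟩ := h1
    have : y = x := Subtype.ext hyx
    rw [← this]; exact hy
  have hnilmap : ∀ U : Subgroup K, Group.IsNilpotent (U.map K.subtype) → Group.IsNilpotent U := by
    intro U hU
    exact Group.nilpotent_of_mulEquiv (U.equivMapOfInjective K.subtype K.subtype_injective).symm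
  by_cases hL : Subgroup.normalizer (Z : Set K) = ⊤
  · have hZn : Z.Normal := Subgroup.normalizer_eq_top_iff.mp hL
    obtain ⟨G', _, _, f, hf, hker, hnil⟩ := ihq (Z.map K.subtype) (Subgroup.map_subtype_le _)
      (by
        rw [Ne, Subgroup.map_eq_bot_iff_of_injective _ K.subtype_injective]
        exact hZne)
      (by
        apply le_normalizer_of_forall_conj_mem
        rintro k hk _ ⟨n, hn, rfl⟩
        exact ⟨⟨k, hk⟩ * n * ⟨k, hk⟩⁻¹, hZn.conj_mem n hn ⟨k, hk⟩, rfl⟩)
      (hmapA Z (fun b => (hZτ b).le))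
    have hker' : f.ker = Z := by
      rw [hker]
      exact Subgroup.comap_map_eq_self_of_injective K.subtype_injective Z
    have h1 : Group.IsSolvable f.ker := by
      rw [hker']
      exact Cfsg.Agent.Lib.Helper1.isSolvable_of_isPGroup (P.2.to_le hZP)
    have h2 : Group.IsSolvable G' := inferInstance
    exact Group.isSolvable_of_ker_le_range f.ker.subtype f (by simp)
  · have hLτ : ∀ b : A, (Subgroup.normalizer (Z : Set K)).map (conjAct A K hAK b).toMonoidHom
        ≤ Subgroup.normalizer (Z : Set K) := by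
      intro b
      apply le_normalizer_of_forall_conj_mem
      rintro _ ⟨x, hx, rfl⟩ z hz
      rw [← hZτ b] at hz ⊢
      obtain ⟨w, hw, rfl⟩ := hz
      refine ⟨x * w * x⁻¹, (Subgroup.mem_normalizer_iff.mp hx w).mp hw, ?_⟩
      simp
    have hLnil := hnilmap _ (ihs _ (Subgroup.map_subtype_le _) (hmapne _ hL) (hmapA _ hLτ))
    have hN := hasNormalPComplement_of_isNilpotent q hLnil
    rw [hZdef] at hN
    obtain ⟨P', T, hTn, hTc⟩ := Cfsg.Agent.S0659.result hq2 P hN
    have hTq := Cfsg.Agent.Lib.Helper13.isPGroup_quotient_of_isComplement' hTc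
    have hTcop := Cfsg.Agent.Lib.Helper13.card_coprime_of_isComplement' hTc
    have hTmem : ∀ x : K, x ∈ T ↔ (orderOf x).Coprime q := by
      intro x
      constructor
      · intro hx
        have h1 : orderOf x ∣ Nat.card T := by
          have := orderOf_dvd_natCard (⟨x, hx⟩ : T)
          rwa [Subgroup.orderOf_mk] at this
        exact Nat.Coprime.coprime_dvd_left h1 hTcop
      · intro hx
        exact Cfsg.Agent.Lib.Lead.pResidual_le_of_isPGroup_quotient T hTq
          (Cfsg.Agent.Lib.Lead.mem_pResidual_of_coprime hx)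
    have hTτ : ∀ b : A, T.map (conjAct A K hAK b).toMonoidHom ≤ T := by
      rintro b _ ⟨x, hx, rfl⟩
      have hx : x ∈ T := hx
      rw [hTmem] at hx ⊢
      have : orderOf ((conjAct A K hAK b).toMonoidHom x) = orderOf x :=
        MulEquiv.orderOf_eq (conjAct A K hAK b) x
      rw [this]; exact hx
    have hTne : T ≠ ⊤ := by
      intro e
      rw [e, Subgroup.isComplement'_top_left] at hTc
      exact P'.ne_bot_of_dvd_card hqd hTc
    have hTnil := hnilmap _ (ihs _ (Subgroup.map_subtype_le _) (hmapne _ hTne) (hmapA _ hTτ))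
    have h1 : Group.IsSolvable T := inferInstance
    have h2 : Group.IsSolvable (K ⧸ T) := Cfsg.Agent.Lib.Helper1.isSolvable_of_isPGroup hTq
    exact (Group.isSolvable_iff_subgroup_quotient T).mpr ⟨h1, h2⟩

/-- **Thompson's theorem**, internal form: a subgroup `K` normalised by an element `a` with
`a ^ p = 1` (`p` prime) and `C_K(a) = 1` is nilpotent. -/
theorem thompson_aux (p : ℕ) (hp : p.Prime) (n : ℕ) :
    ∀ (X : Type u) [Group X] [Finite X] (K : Subgroup X) (a : X), a ^ p = 1 →
      a ∈ Subgroup.normalizer (K : Set X) → K ⊓ Subgroup.centralizer {a} = ⊥ → Nat.card K = n →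
      Group.IsNilpotent K := by
  induction n using Nat.strong_induction_on with
  | _ n ih =>
    intro X _ _ K a hap haK hfix hn
    have ihs : ∀ M : Subgroup X, M ≤ K → M ≠ K → a ∈ Subgroup.normalizer (M : Set X) →
        Group.IsNilpotent M := by
      intro M hMK hne haM
      apply ih (Nat.card M) _ X M a hap haM _ rfl
      · rw [← hn]
        exact Cfsg.Agent.Lib.Helper1.card_lt_of_lt (lt_of_le_of_ne hMK hne)
      · rw [eq_bot_iff, ← hfix]
        exact inf_le_inf_right _ hMK
    have ihq : ∀ M : Subgroup X, M ≤ K → M ≠ ⊥ → K ≤ Subgroup.normalizer (M : Set X) →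
        a ∈ Subgroup.normalizer (M : Set X) →
        ∃ (G' : Type u) (_ : Group G') (_ : Finite G') (f : K →* G'), Function.Surjective f ∧
          f.ker = M.subgroupOf K ∧ Group.IsNilpotent G' := by
      intro M hMK hne hKM haM
      obtain ⟨X', _, _, K', a', f, h1, h2, h3, h4, h5⟩ :=
        exists_quotient_data K M a p hap haK hfix hMK hKM haM
      refine ⟨K', inferInstance, inferInstance, f, h4, h5, ?_⟩
      apply ih (Nat.card K') _ X' K' a' h1 h2 h3 rfl
      rw [← hn]
      have e1 : Nat.card K = Nat.card (K ⧸ f.ker) * Nat.card f.ker :=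
        Subgroup.card_eq_card_quotient_mul_card_subgroup f.ker
      have e2 : Nat.card (K ⧸ f.ker) = Nat.card K' :=
        Nat.card_congr (QuotientGroup.quotientKerEquivOfSurjective f h4).toEquiv
      have e3 : 1 < Nat.card f.ker := by
        rw [h5, Subgroup.one_lt_card_iff_ne_bot, Ne, Subgroup.subgroupOf_eq_bot, disjoint_iff,
          inf_eq_left.mpr hMK]
        exact hne
      rw [e1, e2]
      have e4 : 0 < Nat.card K' := Nat.card_pos
      nlinarith
    exact thompson_stepB p hp K a hap haK hfix (thompson_stepC p hp K a hap haK hfix ihs ihq) ihq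

/-- **Thompson's theorem**, internal form. -/
theorem thompson_fpf {X : Type u} [Group X] [Finite X] (p : ℕ) (hp : p.Prime) (K : Subgroup X)
    (a : X) (hap : a ^ p = 1) (haK : a ∈ Subgroup.normalizer (K : Set X))
    (hfix : K ⊓ Subgroup.centralizer {a} = ⊥) : Group.IsNilpotent K :=
  thompson_aux p hp _ X K a hap haK hfix rfl

end Cfsg.Agent.Lib.Helper15
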