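import Mathlib
import Cfsg.Agent.Lib.Helper15.QuotAct
import Cfsg.Agent.Lib.Helper1.Coprime

set_option autoImplicit false

namespace Cfsg.Agent.Lib.Helper15

open scoped commutatorElement

variable {G : Type*} [Group G]

/-- lifting a fixed point of a single coprime element from a quotient -/
theorem exists_fixed_lift [Finite G] (a : G) (P M : Subgroup G) (hMP : M ≤ P)
    (hPM : P ≤ Subgroup.normalizer (M : Set G)) (haM : a ∈ Subgroup.normalizer (M : Set G))
    (hcop : (orderOf a).Coprime (Nat.card P)) (x : G) (hx : x ∈ P)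
    (h : x⁻¹ * (a * x * a⁻¹) ∈ M) : ∃ c ∈ P ⊓ Subgroup.centralizer {a}, x⁻¹ * c ∈ M := by
  let S : Subgroup G :=
    { carrier := {c | c ∈ Subgroup.normalizer (M : Set G) ∧ c * x * c⁻¹ * x⁻¹ ∈ M}
      one_mem' := ⟨Subgroup.one_mem _, by simp⟩
      mul_mem' := by
        rintro c d ⟨hc, hc'⟩ ⟨hd, hd'⟩
        refine ⟨Subgroup.mul_mem _ hc hd, ?_⟩
        have h1 := (Subgroup.mem_normalizer_iff.mp hc _).mp hd'
        have := M.mul_mem h1 hc'
        convert this using 1
        group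
      inv_mem' := by
        rintro c ⟨hc, hc'⟩
        refine ⟨Subgroup.inv_mem _ hc, ?_⟩
        have h1 := (Subgroup.mem_normalizer_iff.mp (Subgroup.inv_mem _ hc) _).mp (M.inv_mem hc')
        convert h1 using 1
        group }
  have haS : a ∈ S := by
    refine ⟨haM, ?_⟩
    have h1 := (Subgroup.mem_normalizer_iff.mp (hPM hx) _).mp h
    convert h1 using 1
    group
  have hle : Subgroup.zpowers a ≤ S := (Subgroup.zpowers_le).mpr haS
  obtain ⟨c, hc, hxc⟩ := Cfsg.Agent.Lib.Helper1.coprime_quotient_fixed (Subgroup.zpowers a) P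
    (by rw [Nat.card_zpowers]; exact hcop) (Or.inl inferInstance) M hMP hPM
    (fun c hc => (hle hc).1) x hx (fun c hc => (hle hc).2)
  refine ⟨c, Subgroup.mem_inf.mpr ⟨(Subgroup.mem_inf.mp hc).1, ?_⟩, hxc⟩
  exact Subgroup.centralizer_le (Set.singleton_subset_iff.mpr (Subgroup.mem_zpowers a))
    (Subgroup.mem_inf.mp hc).2

theorem le_normalizer_of_commutator_le {P M : Subgroup G} (hMP : M ≤ P) (hcomm : ⁅P, P⁆ ≤ M) :
    P ≤ Subgroup.normalizer (M : Set G) := by
  apply le_normalizer_of_forall_conj_mem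
  intro x hx m hm
  have h1 : ⁅x, m⁆ ∈ M := hcomm (Subgroup.commutator_mem_commutator hx (hMP hm))
  have h2 : x * m * x⁻¹ = ⁅x, m⁆ * m := by simp [commutatorElement_def]
  rw [h2]
  exact M.mul_mem h1 hm

end Cfsg.Agent.Lib.Helper15
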