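import Mathlib
import Cfsg.Prelude.Def_Solvable
import Cfsg.Agent.Lib.Helper15.Fpf
import Cfsg.Agent.Lib.Helper10.Fitting
import Cfsg.Agent.S0016

set_option autoImplicit false

namespace Cfsg.Agent.Lib.Helper15

/-- A `p`-group acting fixed-point-freely on a nontrivial abelian group is cyclic or generalized
quaternion. -/
theorem IsFpf.cyclic_or_quaternion {A V : Type*} [Group A] [CommGroup V] [Finite A] [Finite V]
    [Nontrivial V] {φ : A →* MulAut V} (hf : IsFpf φ) (p : ℕ) [Fact p.Prime] (hA : IsPGroup p A) :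
    IsCyclic A ∨ ∃ n : ℕ, Nonempty (A ≃* QuaternionGroup (2 ^ n)) := by
  have hp : p.Prime := Fact.out
  by_cases hA1 : Nontrivial A
  swap
  · left
    rw [not_nontrivial_iff_subsingleton] at hA1
    infer_instance
  have hcn : Nontrivial (Subgroup.center A) := hA.center_nontrivial
  have hcp : IsPGroup p (Subgroup.center A) := hA.to_subgroup _
  obtain ⟨k, hk⟩ := IsPGroup.iff_card.mp hcp
  have hpd : p ∣ Nat.card (Subgroup.center A) := by
    rw [hk]
    apply dvd_pow_self
    rintro rfl
    rw [pow_zero] at hk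
    have := Finite.one_lt_card (α := Subgroup.center A)
    omega
  obtain ⟨⟨z, hzc⟩, hz⟩ := exists_prime_orderOf_dvd_card' (G := Subgroup.center A) p hpd
  rw [Subgroup.orderOf_mk] at hz
  have key : ∀ H : Subgroup A, Nat.card H = p → H = Subgroup.zpowers z := by
    intro H hH
    apply Subgroup.eq_of_le_of_card_ge
    · intro h hh
      by_cases h1 : h = 1
      · rw [h1]; exact Subgroup.one_mem _
      have ho : orderOf h = p := by
        have h2 : orderOf (⟨h, hh⟩ : H) ∣ p := hH ▸ orderOf_dvd_natCard _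
        rw [Subgroup.orderOf_mk] at h2
        rcases (Nat.dvd_prime hp).mp h2 with h3 | h3
        · exact absurd (orderOf_eq_one_iff.mp h3) h1
        · exact h3
      exact hf.mem_zpowers_of_commute hp ((Subgroup.mem_center_iff.mp hzc h).symm) hz ho
    · rw [Nat.card_zpowers, hz, hH]
  rcases Cfsg.Agent.S0016.result p hA (fun H K hH hK => by rw [key H hH, key K hK]) with h | ⟨-, h⟩
  · exact Or.inl h
  · exact Or.inr h

/-- an element outside a subgroup has a power of prime power order outside the subgroup -/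
theorem exists_primePow_notMem {G : Type*} [Group G] [Finite G] (N : Subgroup G) (n : ℕ) :
    ∀ x : G, orderOf x = n → x ∉ N →
      ∃ (q k : ℕ) (y : G), q.Prime ∧ y ∈ Subgroup.zpowers x ∧ y ∉ N ∧ orderOf y = q ^ k := by
  induction n using Nat.strong_induction_on with
  | _ n ih =>
    intro x hx hxN
    have hn0 : n ≠ 0 := by rw [← hx]; exact (orderOf_pos x).ne'
    have hn1 : n ≠ 1 := by
      intro e
      rw [e, orderOf_eq_one_iff] at hx
      exact hxN (hx ▸ N.one_mem)
    obtain ⟨q, hq⟩ : ∃ q, q = n.minFac := ⟨_, rfl⟩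
    have hqp : q.Prime := hq ▸ Nat.minFac_prime hn1
    obtain ⟨a, ha⟩ : ∃ a, a = q ^ n.factorization q := ⟨_, rfl⟩
    obtain ⟨b, hb⟩ : ∃ b, b = n / q ^ n.factorization q := ⟨_, rfl⟩
    have hab : a * b = n := by rw [ha, hb]; exact Nat.ordProj_mul_ordCompl_eq_self n q
    have hcop : a.Coprime b := by
      rw [ha, hb]
      exact Nat.Coprime.pow_left _ (Nat.coprime_ordCompl hqp hn0)
    have ha1 : 1 < a := by
      rw [ha]
      apply Nat.one_lt_pow _ hqp.one_lt
      have : 0 < n.factorization q :=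
        hqp.factorization_pos_of_dvd hn0 (hq ▸ Nat.minFac_dvd n)
      omega
    by_cases hb1 : b = 1
    · refine ⟨q, n.factorization q, x, hqp, Subgroup.mem_zpowers x, hxN, ?_⟩
      have hna : n = a := by rw [← hab, hb1, mul_one]
      rw [hx]
      exact hna.trans ha
    have hb0 : b ≠ 0 := by rintro rfl; simp at hab; exact hn0 hab.symm
    have hb2 : 1 < b := by omega
    have hoa : orderOf (x ^ a) = b := by
      rw [orderOf_pow_of_dvd (by omega) (by rw [hx, ← hab]; exact dvd_mul_right a b), hx, ← hab]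
      exact Nat.mul_div_cancel_left b (by omega)
    have hob : orderOf (x ^ b) = a := by
      rw [orderOf_pow_of_dvd hb0 (by rw [hx, ← hab]; exact dvd_mul_left b a), hx, ← hab]
      exact Nat.mul_div_cancel a (by omega)
    by_cases h1 : x ^ a ∈ N
    · by_cases h2 : x ^ b ∈ N
      · exfalso
        apply hxN
        have h3 : (1 : ℤ) = a * Nat.gcdA a b + b * Nat.gcdB a b := by
          have := Nat.gcd_eq_gcd_ab a b
          rw [hcop.gcd_eq_one] at this
          exact_mod_cast this
        have h4 : x = (x ^ a) ^ (Nat.gcdA a b) * (x ^ b) ^ (Nat.gcdB a b) := by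
          rw [← zpow_natCast x a, ← zpow_natCast x b, ← zpow_mul, ← zpow_mul, ← zpow_add, ← h3,
            zpow_one]
        rw [h4]
        exact N.mul_mem (N.zpow_mem h1 _) (N.zpow_mem h2 _)
      · obtain ⟨q', k, y, h3, h4, h5, h6⟩ := ih a (by rw [← hab]; nlinarith) (x ^ b) hob h2
        exact ⟨q', k, y, h3,
          (Subgroup.zpowers_le.mpr (Subgroup.npow_mem_zpowers x b)) h4, h5, h6⟩
    · obtain ⟨q', k, y, h3, h4, h5, h6⟩ := ih b (by rw [← hab]; nlinarith) (x ^ a) hoa h1
      exact ⟨q', k, y, h3,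
        (Subgroup.zpowers_le.mpr (Subgroup.npow_mem_zpowers x a)) h4, h5, h6⟩

/-- In a normal nilpotent subgroup `N` of order divisible by `r` there is a nontrivial `r`-subgroup
`V`, normal in the whole group and central in `N`. -/
theorem exists_normal_central_pSubgroup {G : Type*} [Group G] [Finite G] (N : Subgroup G) [N.Normal]
    (hnil : Group.IsNilpotent N) (r : ℕ) [Fact r.Prime] (hr : r ∣ Nat.card N) :
    ∃ V : Subgroup G, V.Normal ∧ V ≤ N ∧ V ≠ ⊥ ∧ (∀ v ∈ V, ∀ h ∈ N, h * v = v * h) ∧
      IsPGroup r V := by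
  obtain ⟨R⟩ : Nonempty (Sylow r N) := inferInstance
  have hRn : (R : Subgroup N).Normal :=
    ((Group.isNilpotent_of_finite_tfae (G := N)).out 0 3 rfl rfl).mp hnil r inferInstance R
  have hRne : (R : Subgroup N) ≠ ⊥ := R.ne_bot_of_dvd_card hr
  have hRc := Sylow.characteristic_of_normal R hRn
  have hV₀ : (R : Subgroup N) ⊓ Subgroup.center N ≠ ⊥ :=
    Cfsg.Agent.Lib.Helper10.normal_inf_center_ne_bot _ hRn hRne
  refine ⟨(R : Subgroup N).map N.subtype ⊓ (Subgroup.center N).map N.subtype, ?_, ?_, ?_, ?_, ?_⟩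
  · have h1 : ((R : Subgroup N).map N.subtype).Normal := ConjAct.normal_of_characteristic_of_normal
    have h2 : ((Subgroup.center N).map N.subtype).Normal :=
      ConjAct.normal_of_characteristic_of_normal
    infer_instance
  · exact inf_le_left.trans (Subgroup.map_subtype_le _)
  · intro e
    apply hV₀
    rw [Subgroup.eq_bot_iff_forall]
    intro c hc
    have h1 : (c : G) ∈ (R : Subgroup N).map N.subtype ⊓ (Subgroup.center N).map N.subtype :=
      Subgroup.mem_inf.mpr ⟨⟨c, (Subgroup.mem_inf.mp hc).1, rfl⟩,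
        ⟨c, (Subgroup.mem_inf.mp hc).2, rfl⟩⟩
    rw [e, Subgroup.mem_bot] at h1
    exact Subtype.ext h1
  · intro v hv h hh
    obtain ⟨c, hc, rfl⟩ := (Subgroup.mem_inf.mp hv).2
    have := Subgroup.mem_center_iff.mp hc ⟨h, hh⟩
    exact congrArg Subtype.val this
  · exact (R.2.map N.subtype).to_le inf_le_left

end Cfsg.Agent.Lib.Helper15
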