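import Mathlib
import Cfsg.Prelude.Def_Solvable
import Cfsg.Agent.Lib.Helper15.FpfInv
import Cfsg.Agent.Lib.Helper5.ZJFun
import Cfsg.Agent.Lib.Helper5.Card
import Cfsg.Agent.Lib.Helper1.Fitting
import Cfsg.Agent.S0016
import Cfsg.Agent.S0023
import Cfsg.Agent.S0056

set_option autoImplicit false

namespace Cfsg.Agent.Lib.Helper15

variable {G : Type*} [Group G]

/-- `p`-subgroups (`p` odd) of a group acting fixed-point-freely are cyclic. -/
theorem isCyclic_of_fpf_pGroup [Finite G] (A K P : Subgroup G) (hK : K ≠ ⊥)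
    (hAK : A ≤ Subgroup.normalizer (K : Set G))
    (hfpf : ∀ a ∈ A, a ≠ 1 → K ⊓ Subgroup.centralizer {a} = ⊥) (p : ℕ) [hp : Fact p.Prime]
    (hp2 : p ≠ 2) (hPA : P ≤ A) (hP : IsPGroup p P) : IsCyclic P := by
  have key := Cfsg.Agent.S0016.result (G := P) p hP ?_
  · rcases key with h | ⟨h, -⟩
    · exact h
    · exact absurd h hp2
  · intro H₁ H₂ h₁ h₂
    have hnt : Nontrivial P := by
      by_contra hnt
      rw [not_nontrivial_iff_subsingleton] at hnt
      have : Nat.card H₁ = 1 := Nat.card_eq_one_iff_unique.mpr ⟨inferInstance, ⟨1⟩⟩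
      rw [h₁] at this
      exact hp.out.one_lt.ne' this
    obtain ⟨z, hzc, hz1, hzp⟩ := Cfsg.Agent.Lib.Helper5.exists_center_order_p hP
    have hzo : orderOf z = p := orderOf_eq_prime hzp hz1
    have main : ∀ H' : Subgroup P, Nat.card H' = p → H' = Subgroup.zpowers z := by
      intro H' hH'
      apply Subgroup.eq_of_le_of_card_ge
      · intro x hx
        by_cases hx1 : x = 1
        · rw [hx1]; exact one_mem _
        have hxo : orderOf x = p := by
          have h1 : orderOf (⟨x, hx⟩ : H') ∣ p := hH' ▸ orderOf_dvd_natCard _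
          rw [Subgroup.orderOf_mk] at h1
          rcases (Nat.dvd_prime hp.out).mp h1 with h | h
          · exact absurd (orderOf_eq_one_iff.mp h) hx1
          · exact h
        have hcomm : (z : G) * x = x * z :=
          congrArg Subtype.val (Subgroup.mem_center_iff.mp hzc x).symm
        have h2 := mem_zpowers_of_fpf A K hK hAK hfpf hp.out (a := (z : G)) (b := (x : G))
          (hPA z.2) (hPA x.2) hcomm (by rw [Subgroup.orderOf_coe]; exact hzo)
          (by rw [Subgroup.orderOf_coe]; exact hxo)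
        obtain ⟨k, hk⟩ := Subgroup.mem_zpowers_iff.mp h2
        exact Subgroup.mem_zpowers_iff.mpr ⟨k, Subtype.ext (by simpa using hk)⟩
      · rw [Nat.card_zpowers, hzo, hH']
    rw [main H₁ h₁, main H₂ h₂]

/-- an element of prime order `p` normalising a `q`-subgroup (`q` odd, `q ≠ p`) inside a group acting
fixed-point-freely centralises it. -/
theorem centralizes_of_fpf_prime [Finite G] (A K Q : Subgroup G) (hK : K ≠ ⊥)
    (hAK : A ≤ Subgroup.normalizer (K : Set G))
    (hfpf : ∀ a ∈ A, a ≠ 1 → K ⊓ Subgroup.centralizer {a} = ⊥) (p q : ℕ) [hp : Fact p.Prime]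
    [hq : Fact q.Prime] (hq2 : q ≠ 2) (hpq : p ≠ q) (hQA : Q ≤ A) (hQ : IsPGroup q Q)
    (x : G) (hxA : x ∈ A) (hxo : orderOf x = p)
    (hxQ : Subgroup.zpowers x ≤ Subgroup.normalizer (Q : Set G)) :
    Subgroup.zpowers x ≤ Subgroup.centralizer (Q : Set G) := by
  have hQc : IsCyclic Q := isCyclic_of_fpf_pGroup A K Q hK hAK hfpf q hq2 hQA hQ
  have hQcomm : IsMulCommutative Q := IsCyclic.isMulCommutative
  have hcardB : Nat.card (Subgroup.zpowers x) = p := by rw [Nat.card_zpowers, hxo]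
  obtain ⟨m, hm⟩ := hQ.exists_card_eq
  have hcop : (Nat.card (Subgroup.zpowers x)).Coprime (Nat.card Q) := by
    rw [hcardB, hm]
    exact Nat.Coprime.pow_right _ ((Nat.coprime_primes hp.out hq.out).mpr hpq)
  apply Cfsg.Agent.S0056.result (Subgroup.zpowers x) Q hxQ hcop
  intro v hv hvo b hb
  -- `v` has order `q`
  have hvq : orderOf v = q := by
    obtain ⟨k, hk⟩ := (IsPGroup.iff_orderOf.mp hQ) ⟨v, hv⟩
    rw [Subgroup.orderOf_mk] at hk
    have hk0 : k ≠ 0 := by
      rintro rfl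
      rw [pow_zero] at hk
      rw [hk] at hvo
      exact Nat.not_prime_one hvo
    have h1 : q ∣ orderOf v := by rw [hk]; exact dvd_pow_self _ hk0
    exact ((Nat.prime_dvd_prime_iff_eq hq.out hvo).mp h1).symm
  have hnorm : Subgroup.zpowers x ≤ Subgroup.normalizer ((Subgroup.zpowers v : Subgroup G) : Set G) := by
    apply le_normalizer_of_forall_conj_mem
    intro c hc y hy
    have hw : c * v * c⁻¹ ∈ Q := (Subgroup.mem_normalizer_iff.mp (hxQ hc) v).mp hv
    have hwo : orderOf (c * v * c⁻¹) = q := by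
      have := orderOf_injective (MulAut.conj c).toMonoidHom (MulAut.conj c).injective v
      rw [← hvq, ← this]; rfl
    have hcomm : v * (c * v * c⁻¹) = (c * v * c⁻¹) * v :=
      congrArg Subtype.val (hQcomm.is_comm.comm ⟨v, hv⟩ ⟨_, hw⟩)
    have h2 := mem_zpowers_of_fpf A K hK hAK hfpf hq.out (hQA hv) (hQA hw) hcomm hvq hwo
    obtain ⟨j, rfl⟩ := Subgroup.mem_zpowers_iff.mp hy
    have : c * v ^ j * c⁻¹ = (c * v * c⁻¹) ^ j := by
      rw [conj_zpow]
    rw [this]
    exact Subgroup.zpow_mem _ h2 j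
  have hcardv : Nat.card (Subgroup.zpowers v) = q := by rw [Nat.card_zpowers, hvq]
  have hinf : Subgroup.zpowers x ⊓ Subgroup.zpowers v = ⊥ := by
    apply Disjoint.eq_bot
    apply Subgroup.disjoint_of_coprime_natCard
    rw [hcardB, hcardv]
    exact (Nat.coprime_primes hp.out hq.out).mpr hpq
  have hcardD : Nat.card ↥(Subgroup.zpowers x ⊔ Subgroup.zpowers v) = p * q := by
    have := Cfsg.Agent.Lib.Helper5.card_sup_mul_card_inf _ _ hnorm
    rw [hinf, Subgroup.card_bot, mul_one, hcardB, hcardv] at this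
    exact this
  have hDA : Subgroup.zpowers x ⊔ Subgroup.zpowers v ≤ A :=
    sup_le (Subgroup.zpowers_le.mpr hxA) (Subgroup.zpowers_le.mpr (hQA hv))
  have hDc : IsCyclic ↥(Subgroup.zpowers x ⊔ Subgroup.zpowers v) :=
    isCyclic_of_fpf _ K hK (hDA.trans hAK) (fun a ha => hfpf a (hDA ha))
      (Or.inr ⟨p, q, hp.out, hq.out, hcardD⟩)
  have hDcomm : IsMulCommutative ↥(Subgroup.zpowers x ⊔ Subgroup.zpowers v) :=
    IsCyclic.isMulCommutative
  exact congrArg Subtype.val (hDcomm.is_comm.comm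
    ⟨b, (le_sup_left : _ ≤ Subgroup.zpowers x ⊔ Subgroup.zpowers v) hb⟩
    ⟨v, (le_sup_right : _ ≤ Subgroup.zpowers x ⊔ Subgroup.zpowers v) (Subgroup.mem_zpowers v)⟩)

end Cfsg.Agent.Lib.Helper15
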