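import Mathlib
import Cfsg.Prelude.Def_Solvable
import Cfsg.Agent.S0069

set_option autoImplicit false

namespace Cfsg.Agent.Lib.Helper15

open Pointwise

variable {G : Type*} [Group G]

/-- internal form of S0069: a group acting fixed-point-freely has a nontrivial central element -/
theorem exists_central_of_fpf [Finite G] (A K : Subgroup G) (hK : K ≠ ⊥) (hA : A ≠ ⊥)
    (hAK : A ≤ Subgroup.normalizer (K : Set G))
    (hf : ∀ a ∈ A, a ≠ 1 → K ⊓ Subgroup.centralizer {a} = ⊥) :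
    ∃ z ∈ A, z ≠ 1 ∧ ∀ a ∈ A, a * z = z * a := by
  have hNL : K ≤ K ⊔ A := le_sup_left
  have hHL : A ≤ K ⊔ A := le_sup_right
  have hdisj : ∀ x, x ∈ K → x ∈ A → x = 1 := by
    intro x hxN hxH
    by_contra hx1
    have h1 : x ∈ K ⊓ Subgroup.centralizer {x} := by
      refine Subgroup.mem_inf.mpr ⟨hxN, ?_⟩
      rw [Subgroup.mem_centralizer_singleton_iff]
    rw [hf x hxH hx1, Subgroup.mem_bot] at h1
    exact hx1 h1
  have hn : (K.subgroupOf (K ⊔ A)).Normal :=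
    Subgroup.normal_subgroupOf_of_le_normalizer (sup_le Subgroup.le_normalizer hAK)
  have key := Cfsg.Agent.S0069.result (K.subgroupOf (K ⊔ A)) (A.subgroupOf (K ⊔ A)) ?_ ?_ ?_ ?_
  · obtain ⟨z, hz⟩ := Subgroup.ne_bot_iff_exists_ne_one.mp key
    obtain ⟨z, hzc⟩ := z
    have hzA : ((z : ↥(K ⊔ A)) : G) ∈ A := Subgroup.mem_subgroupOf.mp z.2
    refine ⟨((z : ↥(K ⊔ A)) : G), hzA, ?_, ?_⟩
    · intro e
      apply hz
      apply Subtype.ext
      apply Subtype.ext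
      apply Subtype.ext
      exact e
    · intro a ha
      have h1 := Subgroup.mem_center_iff.mp hzc ⟨⟨a, hHL ha⟩, Subgroup.mem_subgroupOf.mpr ha⟩
      exact congrArg (fun u : ↥(A.subgroupOf (K ⊔ A)) => ((u : ↥(K ⊔ A)) : G)) h1
  · apply Subgroup.isComplement'_of_disjoint_and_mul_eq_univ
    · rw [Subgroup.disjoint_def]
      intro x hxN hxH
      apply Subtype.ext
      exact hdisj _ (Subgroup.mem_subgroupOf.mp hxN) (Subgroup.mem_subgroupOf.mp hxH)
    · rw [← Subgroup.normal_mul, ← Subgroup.subgroupOf_sup hNL hHL, Subgroup.subgroupOf_self]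
      rfl
  · rw [Ne, Subgroup.subgroupOf_eq_bot, disjoint_iff, inf_eq_left.mpr hNL]
    exact hK
  · rw [Ne, Subgroup.subgroupOf_eq_bot, disjoint_iff, inf_eq_left.mpr hHL]
    exact hA
  · intro h hh hh1
    rw [eq_bot_iff]
    intro n hn
    obtain ⟨hnN, hnC⟩ := Subgroup.mem_inf.mp hn
    rw [Subgroup.mem_centralizer_singleton_iff] at hnC
    rw [Subgroup.mem_subgroupOf] at hnN hh
    have h1 : (n : G) ∈ K ⊓ Subgroup.centralizer {(h : G)} := by
      refine Subgroup.mem_inf.mpr ⟨hnN, ?_⟩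
      rw [Subgroup.mem_centralizer_singleton_iff]
      exact congrArg Subtype.val hnC
    rw [hf h hh (fun e => hh1 (Subtype.ext e)), Subgroup.mem_bot] at h1
    rw [Subgroup.mem_bot]
    exact Subtype.ext h1

theorem not_isPrimePow_mul_of_coprime {a b : ℕ} (hab : a.Coprime b) (ha : a ≠ 1) (hb : b ≠ 1) :
    ¬ IsPrimePow (a * b) := by
  intro h
  rw [isPrimePow_nat_iff] at h
  obtain ⟨p, k, hp, hk, hpk⟩ := h
  obtain ⟨i, -, hi⟩ := (Nat.dvd_prime_pow hp).mp (hpk ▸ Dvd.intro _ rfl : a ∣ p ^ k)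
  obtain ⟨j, -, hj⟩ := (Nat.dvd_prime_pow hp).mp (hpk ▸ Dvd.intro_left _ rfl : b ∣ p ^ k)
  have hi0 : i ≠ 0 := by rintro rfl; exact ha (by simpa using hi)
  have hj0 : j ≠ 0 := by rintro rfl; exact hb (by simpa using hj)
  have h1 : p ∣ a := hi ▸ dvd_pow_self _ hi0
  have h2 : p ∣ b := hj ▸ dvd_pow_self _ hj0
  exact hp.one_lt.ne' (Nat.dvd_one.mp (hab ▸ Nat.dvd_gcd h1 h2))

end Cfsg.Agent.Lib.Helper15
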