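import Mathlib
import Cfsg.Prelude.Def_Solvable
import Cfsg.Agent.Lib.Helper15.Thompson4

set_option autoImplicit false

namespace Cfsg.Agent.Lib.Helper15

open Pointwise
open scoped commutatorElement IsMulCommutative

universe u

/-- The key computation for splitting automorphisms: if every `u * x` (`u ∈ Q`) has trivial
`p`-th power and trivial norm on the abelian group `V`, then `v ^ |Q|` is fixed by `Q`. -/
theorem pow_card_fixed_of_norm {A V : Type*} [Group A] [CommGroup V] (φ : A →* MulAut V)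
    (Q : Subgroup A) [Finite Q] (x : A)
    (hnorm : ∀ u ∈ Q, x * u * x⁻¹ ∈ Q) (p : ℕ) (hp : p.Prime)
    (hux : ∀ u ∈ Q, (u * x) ^ p = 1)
    (hN : ∀ u ∈ Q, ∀ v : V, ∏ j ∈ Finset.range p, φ ((u * x) ^ j) v = 1)
    (v : V) (u₀ : A) (hu₀ : u₀ ∈ Q) : φ u₀ (v ^ Nat.card Q) = v ^ Nat.card Q := by
  classical
  have : Fintype Q := Fintype.ofFinite Q
  have h1 : ∏ u : Q, ∏ j ∈ Finset.range p, φ (((u : A) * x) ^ j) v = 1 := by
    apply Finset.prod_eq_one
    intro u _
    exact hN u u.2 v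
  rw [Finset.prod_comm] at h1
  obtain ⟨p', rfl⟩ : ∃ p', p = p' + 1 := ⟨p - 1, by have := hp.pos; omega⟩
  rw [Finset.prod_range_succ'] at h1
  have h2 : ∀ j ∈ Finset.range p', ∏ u : Q, φ (((u : A) * x) ^ (j + 1)) v
      = ∏ u : Q, φ (u : A) (φ (x ^ (j + 1)) v) := by
    intro j hj
    rw [Finset.mem_range] at hj
    let g : Q → Q := fun u => ⟨((u : A) * x) ^ (j + 1) * (x ^ (j + 1))⁻¹,
      mul_pow_mul_inv_mem hnorm (j + 1) u u.2⟩
    have hcop : Nat.Coprime (j + 1) (p' + 1) := by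
      apply Nat.Coprime.symm
      rw [hp.coprime_iff_not_dvd]
      intro hd
      have := Nat.le_of_dvd (by omega) hd
      omega
    have hginj : Function.Injective g := by
      intro u u' huu
      have h3 : ((u : A) * x) ^ (j + 1) * (x ^ (j + 1))⁻¹ = ((u' : A) * x) ^ (j + 1) * (x ^ (j + 1))⁻¹ :=
        congrArg Subtype.val huu
      have h4 := mul_right_cancel h3
      have h5 := eq_of_pow_eq_of_coprime hp.one_lt hcop (hux u u.2) (hux u' u'.2) h4
      exact Subtype.ext (mul_right_cancel h5)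
    have hgbij : Function.Bijective g := Finite.injective_iff_bijective.mp hginj
    have h6 : ∀ u : Q, φ (((u : A) * x) ^ (j + 1)) v = φ ((g u : Q) : A) (φ (x ^ (j + 1)) v) := by
      intro u
      have : ((u : A) * x) ^ (j + 1) = ((g u : Q) : A) * x ^ (j + 1) := by
        simp [g]
      rw [this, map_mul]; rfl
    simp_rw [h6]
    rw [hgbij.prod_comp (fun u : Q => φ (u : A) (φ (x ^ (j + 1)) v))]
  rw [Finset.prod_congr rfl h2] at h1
  have h3 : ∏ u : Q, φ (((u : A) * x) ^ 0) v = v ^ Nat.card Q := by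
    simp [Finset.prod_const, Nat.card_eq_fintype_card]
  rw [h3] at h1
  have h4 : v ^ Nat.card Q = (∏ j ∈ Finset.range p', ∏ u : Q, φ (u : A) (φ (x ^ (j + 1)) v))⁻¹ :=
    eq_inv_of_mul_eq_one_right h1
  rw [h4, map_inv, map_prod]
  congr 1
  apply Finset.prod_congr rfl
  intro j _
  exact prod_subgroup_fixed φ Q _ u₀ hu₀

theorem conj_prod_mul_pow {G : Type*} [Group G] (A V : Subgroup G) [IsMulCommutative V]
    (hAV : A ≤ Subgroup.normalizer (V : Set G)) (c : A) (v : V) (k : ℕ) :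
    ((∏ i ∈ Finset.range k, conjAct A V hAV (c ^ i) v : V) : G) * (c : G) ^ k
      = ((v : G) * c) ^ k := by
  induction k with
  | zero => simp
  | succ k ih =>
    rw [Finset.prod_range_succ, Subgroup.coe_mul, conjAct_coe, pow_succ ((v : G) * c), ← ih]
    simp only [Subgroup.coe_pow, pow_succ]
    group

/-- If all `n * u * b` (`n ∈ N`, `u ∈ Q`) have trivial `p`-th power, `N` abelian of order prime
to `|Q|`, then `Q` centralises `N`. -/
theorem centralizes_of_splits {G : Type*} [Group G] [Finite G] (p : ℕ) (hp : p.Prime) (b : G)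
    (N Q : Subgroup G) [hNc : IsMulCommutative N]
    (hbN : b ∈ Subgroup.normalizer (N : Set G)) (hbQ : b ∈ Subgroup.normalizer (Q : Set G))
    (hQN : Q ≤ Subgroup.normalizer (N : Set G)) (hcop : (Nat.card Q).Coprime (Nat.card N))
    (hs : ∀ n ∈ N, ∀ u ∈ Q, (n * u * b) ^ p = 1) : Q ≤ Subgroup.centralizer (N : Set G) := by
  obtain ⟨A, hA⟩ : ∃ A : Subgroup G, A = Subgroup.normalizer (N : Set G) := ⟨_, rfl⟩
  have hAN : A ≤ Subgroup.normalizer (N : Set G) := hA.le
  have hbA : b ∈ A := hA ▸ hbN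
  have hQA : Q ≤ A := hA ▸ hQN
  have hone : ∀ u ∈ Q, (u * b) ^ p = 1 := by
    intro u hu
    have := hs 1 N.one_mem u hu
    simpa using this
  have key := pow_card_fixed_of_norm (conjAct A N hAN) (Q.subgroupOf A) ⟨b, hbA⟩ ?_ p hp ?_ ?_
  · intro u hu
    rw [Subgroup.mem_centralizer_iff]
    intro n hn
    have hcard : Nat.card (Q.subgroupOf A) = Nat.card Q :=
      Nat.card_congr (Subgroup.subgroupOfEquivOfLe hQA).toEquiv
    have h1 := key ⟨n, hn⟩ ⟨u, hQA hu⟩ (Subgroup.mem_subgroupOf.mpr hu)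
    rw [hcard, map_pow] at h1
    have h3 : conjAct A N hAN ⟨u, hQA hu⟩ ⟨n, hn⟩ = ⟨n, hn⟩ :=
      (powCoprime hcop.symm).injective h1
    have h4 : u * n * u⁻¹ = n := congrArg Subtype.val h3
    calc n * u = (u * n * u⁻¹) * u := by rw [h4]
      _ = u * n := by group
  · rintro ⟨u, huA⟩ hu
    exact Subgroup.mem_subgroupOf.mpr
      ((Subgroup.mem_normalizer_iff.mp hbQ u).mp (Subgroup.mem_subgroupOf.mp hu))
  · rintro ⟨u, huA⟩ hu
    apply Subtype.ext
    simpa using hone u (Subgroup.mem_subgroupOf.mp hu)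
  · rintro ⟨u, huA⟩ hu v
    have hu' : u ∈ Q := Subgroup.mem_subgroupOf.mp hu
    have h := conj_prod_mul_pow A N hAN (⟨u, huA⟩ * ⟨b, hbA⟩) v p
    have h1 : (((⟨u, huA⟩ * ⟨b, hbA⟩ : A)) : G) ^ p = 1 := hone u hu'
    have h2 : ((v : G) * ((⟨u, huA⟩ * ⟨b, hbA⟩ : A) : G)) ^ p = 1 := by
      have := hs v v.2 u hu'
      simpa [mul_assoc] using this
    rw [h1, h2, mul_one] at h
    exact Subtype.ext h

theorem mem_normalizer_of_forall_conj_mem {G : Type*} [Group G] (Q : Subgroup G) [Finite Q] (b : G)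
    (h : ∀ x ∈ Q, b * x * b⁻¹ ∈ Q) : b ∈ Subgroup.normalizer (Q : Set G) := by
  rw [Subgroup.mem_normalizer_iff]
  intro x
  refine ⟨h x, fun hx => ?_⟩
  let f : Q → Q := fun y => ⟨b * y * b⁻¹, h y y.2⟩
  have hinj : Function.Injective f := by
    intro y z hyz
    have : b * y * b⁻¹ = b * z * b⁻¹ := congrArg Subtype.val hyz
    exact Subtype.ext (by simpa using this)
  obtain ⟨y, hy⟩ := (Finite.injective_iff_surjective.mp hinj) ⟨_, hx⟩
  have h1 : b * y * b⁻¹ = b * x * b⁻¹ := congrArg Subtype.val hy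
  have h2 : (y : G) = x := by simpa using h1
  rw [← h2]; exact y.2

/-- Frattini argument: some element of the coset `K a` normalises a given Sylow subgroup. -/
theorem exists_mul_mem_normalizer_sylow {X : Type*} [Group X] [Finite X] (K : Subgroup X) (a : X)
    (haK : a ∈ Subgroup.normalizer (K : Set X)) (q : ℕ) [Fact q.Prime] (P : Sylow q K) :
    ∃ k ∈ K, k * a ∈ Subgroup.normalizer (((P : Subgroup K).map K.subtype : Subgroup X) : Set X) := by
  let τ : MulAut K := K.normalizerMonoidHom ⟨a, haK⟩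
  have hτ : ∀ x : K, ((τ x : K) : X) = a * x * a⁻¹ := fun _ => rfl
  obtain ⟨g, hg⟩ := MulAction.exists_smul_eq K (τ • P) P
  refine ⟨g, g.2, ?_⟩
  apply mem_normalizer_of_forall_conj_mem
  rintro _ ⟨x, hx, rfl⟩
  refine ⟨g * τ x * g⁻¹, ?_, ?_⟩
  · have h1 : τ x ∈ ((τ • P : Sylow q K) : Subgroup K) := by
      rw [Sylow.pointwise_smul_def]
      exact Subgroup.smul_mem_pointwise_smul x τ _ hx
    have h2 : g * τ x * g⁻¹ ∈ ((g • (τ • P) : Sylow q K) : Subgroup K) := by
      rw [Sylow.coe_subgroup_smul, mem_conj_smul_iff]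
      have e : g⁻¹ * (g * τ x * g⁻¹) * g = τ x := by group
      rw [e]; exact h1
    rw [hg] at h2
    exact h2
  · simp only [Subgroup.subtype_apply, Subgroup.coe_mul, Subgroup.coe_inv, hτ]
    group

/-- passing to the quotient by an invariant normal subgroup (splitting version) -/
theorem exists_quotient_data_splits {X : Type u} [Group X] [Finite X] (K M : Subgroup X) (a : X)
    (p : ℕ) (haK : a ∈ Subgroup.normalizer (K : Set X)) (hs : ∀ k ∈ K, (k * a) ^ p = 1)
    (hMK : M ≤ K) (hKM : K ≤ Subgroup.normalizer (M : Set X))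
    (haM : a ∈ Subgroup.normalizer (M : Set X)) :
    ∃ (X' : Type u) (_ : Group X') (_ : Finite X') (K' : Subgroup X') (a' : X') (f : K →* K'),
      a' ∈ Subgroup.normalizer (K' : Set X') ∧ (∀ k ∈ K', (k * a') ^ p = 1) ∧
      Function.Surjective f ∧ f.ker = M.subgroupOf K := by
  let Y : Subgroup X := Subgroup.normalizer (M : Set X)
  let M' : Subgroup Y := M.subgroupOf Y
  have hM'n : M'.Normal := Subgroup.normal_in_normalizer
  let π : Y →* Y ⧸ M' := QuotientGroup.mk' M'
  let K₁ : Subgroup Y := K.subgroupOf Y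
  let K' : Subgroup (Y ⧸ M') := K₁.map π
  let a₁ : Y := ⟨a, haM⟩
  have hmemK' : ∀ k : K, π (Subgroup.inclusion hKM k) ∈ K' := by
    intro k
    exact ⟨Subgroup.inclusion hKM k, Subgroup.mem_subgroupOf.mpr k.2, rfl⟩
  let f : K →* K' := (π.comp (Subgroup.inclusion hKM)).codRestrict K' hmemK'
  have hπ1 : ∀ y : Y, π y = 1 ↔ (y : X) ∈ M := by
    intro y
    rw [show π y = (QuotientGroup.mk y : Y ⧸ M') from rfl, QuotientGroup.eq_one_iff]
    exact Subgroup.mem_subgroupOf
  refine ⟨Y ⧸ M', inferInstance, inferInstance, K', π a₁, f, ?_, ?_, ?_, ?_⟩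
  · apply mem_normalizer_of_forall_conj_mem
    rintro _ ⟨z, hz, rfl⟩
    rw [← map_inv, ← map_mul, ← map_mul]
    refine ⟨_, ?_, rfl⟩
    apply Subgroup.mem_subgroupOf.mpr
    exact (Subgroup.mem_normalizer_iff.mp haK (z : X)).mp (Subgroup.mem_subgroupOf.mp hz)
  · rintro _ ⟨z, hz, rfl⟩
    rw [← map_mul, ← map_pow]
    have : (z * a₁) ^ p = 1 := Subtype.ext (by simpa using hs z (Subgroup.mem_subgroupOf.mp hz))
    rw [this, map_one]
  · rintro ⟨y, z, hz, rfl⟩
    refine ⟨⟨z, Subgroup.mem_subgroupOf.mp hz⟩, ?_⟩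
    apply Subtype.ext
    rfl
  · ext k
    rw [MonoidHom.mem_ker, Subgroup.mem_subgroupOf]
    constructor
    · intro h
      have h1 : π (Subgroup.inclusion hKM k) = 1 := congrArg Subtype.val h
      rw [hπ1] at h1
      exact h1
    · intro h
      apply Subtype.ext
      exact (hπ1 (Subgroup.inclusion hKM k)).mpr h

end Cfsg.Agent.Lib.Helper15
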