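import Mathlib
import Cfsg.Prelude.Def_Solvable
import Cfsg.Agent.Lib.Helper15.Kegel1

set_option autoImplicit false

namespace Cfsg.Agent.Lib.Helper15

open Pointwise
open scoped commutatorElement

universe u

/-- The solvable case of Kegel's theorem, given nilpotency of proper invariant quotients. -/
theorem kegel_stepB {X : Type u} [Group X] [Finite X] (p : ℕ) (hp : p.Prime) (K : Subgroup X)
    (a : X) (haK : a ∈ Subgroup.normalizer (K : Set X)) (hs : ∀ k ∈ K, (k * a) ^ p = 1)
    (hsolv : Group.IsSolvable K)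
    (ihq : ∀ M : Subgroup X, M ≤ K → M ≠ ⊥ → K ≤ Subgroup.normalizer (M : Set X) →
      a ∈ Subgroup.normalizer (M : Set X) →
      ∃ (G' : Type u) (_ : Group G') (_ : Finite G') (f : K →* G'), Function.Surjective f ∧
        f.ker = M.subgroupOf K ∧ Group.IsNilpotent G') :
    Group.IsNilpotent K := by
  by_cases hK : K = ⊥
  · subst hK; infer_instance
  obtain ⟨A, hAdef⟩ : ∃ A : Subgroup X, A = Subgroup.zpowers a := ⟨_, rfl⟩
  have haA : a ∈ A := by rw [hAdef]; exact Subgroup.mem_zpowers a
  have hAK : A ≤ Subgroup.normalizer (K : Set X) := by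
    rw [hAdef]; exact Subgroup.zpowers_le.mpr haK
  have : Nontrivial K := (Subgroup.nontrivial_iff_ne_bot K).mpr hK
  obtain ⟨r, hr, N₀, hchar, hNr, hNne, hNcomm⟩ :=
    Cfsg.Agent.Lib.Helper1.exists_char_pSubgroup_of_solvable K
  have := Fact.mk hr
  have hN₀n : N₀.Normal := inferInstance
  obtain ⟨N, hNdef⟩ : ∃ N : Subgroup X, N = N₀.map K.subtype := ⟨_, rfl⟩
  have hNK : N ≤ K := by rw [hNdef]; exact Subgroup.map_subtype_le _
  have hNne' : N ≠ ⊥ := by
    rw [hNdef, Ne, Subgroup.map_eq_bot_iff_of_injective _ K.subtype_injective]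
    exact hNne
  have hKN : K ≤ Subgroup.normalizer (N : Set X) := by
    apply le_normalizer_of_forall_conj_mem
    intro k hk x hx
    rw [hNdef] at hx ⊢
    obtain ⟨n, hn, rfl⟩ := hx
    exact ⟨⟨k, hk⟩ * n * ⟨k, hk⟩⁻¹, hN₀n.conj_mem n hn ⟨k, hk⟩, rfl⟩
  have hAN : A ≤ Subgroup.normalizer (N : Set X) := by
    apply le_normalizer_of_forall_conj_mem
    intro b hb x hx
    rw [hNdef] at hx ⊢
    obtain ⟨n, hn, rfl⟩ := hx
    refine ⟨conjAct A K hAK ⟨b, hb⟩ n, ?_, rfl⟩
    have h1 := hchar.fixed (conjAct A K hAK ⟨b, hb⟩)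
    rw [← h1] at hn
    exact hn
  have hNc : IsMulCommutative N := by
    refine ⟨⟨?_⟩⟩
    rintro ⟨x, hx⟩ ⟨y, hy⟩
    apply Subtype.ext
    rw [hNdef] at hx hy
    obtain ⟨n, hn, rfl⟩ := hx
    obtain ⟨m, hm, rfl⟩ := hy
    have h1 : n * m = m * n := congrArg Subtype.val (hNcomm.is_comm.comm ⟨n, hn⟩ ⟨m, hm⟩)
    have h2 : (n : X) * m = m * n := congrArg Subtype.val h1
    exact h2
  have hNr' : IsPGroup r N := by rw [hNdef]; exact hNr.map _
  obtain ⟨G', _, _, f, hf, hker, hnil⟩ := ihq N hNK hNne' hKN (hAN haA)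
  have hker' : f.ker = N₀ := by
    rw [hker, hNdef]
    exact Subgroup.comap_map_eq_self_of_injective K.subtype_injective N₀
  apply isNilpotent_of_exists_normal_sylow
  intro q _
  obtain ⟨P⟩ : Nonempty (Sylow q K) := inferInstance
  refine ⟨P, ?_⟩
  have hB := sylow_sup_ker_normal f hf hnil q P
  rw [hker'] at hB
  by_cases hqr : q = r
  · subst hqr
    have hle : N₀ ≤ P := by
      obtain ⟨P', hP'⟩ := hNr.exists_le_sylow
      obtain ⟨g, hg⟩ := MulAction.exists_smul_eq K P' P
      intro x hx
      rw [← hg, Sylow.coe_subgroup_smul, mem_conj_smul_iff]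
      apply hP'
      have := hN₀n.conj_mem x hx g⁻¹
      simpa using this
    rw [sup_eq_left.mpr hle] at hB
    exact hB
  · apply sylow_normal_of_le_normal q P _ hB le_sup_left
    apply sup_le Subgroup.le_normalizer
    have hQK : (P : Subgroup K).map K.subtype ≤ K := Subgroup.map_subtype_le _
    obtain ⟨k₀, hk₀, hb⟩ := exists_mul_mem_normalizer_sylow K a haK q P
    have hcent : (P : Subgroup K).map K.subtype ≤ Subgroup.centralizer (N : Set X) := by
      apply centralizes_of_splits p hp (k₀ * a) N _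
        ((Subgroup.normalizer (N : Set X)).mul_mem (hKN hk₀) (hAN haA)) hb (hQK.trans hKN)
      · exact IsPGroup.coprime_card_of_ne q r hqr _ _ (P.2.map _) hNr'
      · intro n hn u hu
        have := hs (n * u * k₀) (K.mul_mem (K.mul_mem (hNK hn) (hQK hu)) hk₀)
        simpa [mul_assoc] using this
    refine le_trans ?_ (Subgroup.centralizer_le_normalizer _)
    intro n hn
    rw [Subgroup.mem_centralizer_iff]
    intro x hx
    have h1 : (x : X) ∈ Subgroup.centralizer (N : Set X) := hcent ⟨x, hx, rfl⟩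
    rw [Subgroup.mem_centralizer_iff] at h1
    have h2 := h1 (n : X) (by rw [hNdef]; exact ⟨n, hn, rfl⟩)
    exact Subtype.ext h2.symm

/-- Reduction to the solvable case of Kegel's theorem via Glauberman's `ZJ` theorem. -/
theorem kegel_stepC {X : Type u} [Group X] [Finite X] (q : ℕ) [Fact q.Prime] (hq2 : q ≠ 2)
    (K : Subgroup X) (a : X) (haK : a ∈ Subgroup.normalizer (K : Set X))
    (hqd : q ∣ Nat.card K) (P : Sylow q K)
    (haP : a ∈ Subgroup.normalizer (((P : Subgroup K).map K.subtype : Subgroup X) : Set X))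
    (ihs : ∀ M : Subgroup X, M ≤ K → M ≠ K → a ∈ Subgroup.normalizer (M : Set X) →
      Group.IsNilpotent M)
    (ihq : ∀ M : Subgroup X, M ≤ K → M ≠ ⊥ → K ≤ Subgroup.normalizer (M : Set X) →
      a ∈ Subgroup.normalizer (M : Set X) →
      ∃ (G' : Type u) (_ : Group G') (_ : Finite G') (f : K →* G'), Function.Surjective f ∧
        f.ker = M.subgroupOf K ∧ Group.IsNilpotent G') :
    Group.IsSolvable K := by
  obtain ⟨A, hAdef⟩ : ∃ A : Subgroup X, A = Subgroup.zpowers a := ⟨_, rfl⟩
  have haA : a ∈ A := by rw [hAdef]; exact Subgroup.mem_zpowers a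
  have hAK : A ≤ Subgroup.normalizer (K : Set X) := by
    rw [hAdef]; exact Subgroup.zpowers_le.mpr haK
  have hP : A ≤ Subgroup.normalizer (((P : Subgroup K).map K.subtype : Subgroup X) : Set X) := by
    rw [hAdef]; exact Subgroup.zpowers_le.mpr haP
  -- the automorphisms induced by `A`
  have hτ : ∀ (b : A) (x : K), ((conjAct A K hAK b x : K) : X) = b * x * (b : X)⁻¹ := fun _ _ => rfl
  have hPτ : ∀ b : A, (P : Subgroup K).map (conjAct A K hAK b).toMonoidHom = P := by
    intro b
    apply Subgroup.eq_of_le_of_card_ge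
    · rintro _ ⟨x, hx, rfl⟩
      have h := (Subgroup.mem_normalizer_iff.mp (hP b.2) (x : X)).mp ⟨x, hx, rfl⟩
      obtain ⟨y, hy, hyx⟩ := h
      have : (conjAct A K hAK b).toMonoidHom x = y := Subtype.ext hyx.symm
      rw [this]; exact hy
    · have hinj : Function.Injective (conjAct A K hAK b).toMonoidHom :=
        (conjAct A K hAK b).injective
      rw [Subgroup.card_map_of_injective hinj]
  obtain ⟨Z, hZdef⟩ : ∃ Z : Subgroup K, Z = Cfsg.centerThompsonAOf (P : Subgroup K) := ⟨_, rfl⟩
  have hZτ : ∀ b : A, Z.map (conjAct A K hAK b).toMonoidHom = Z := by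
    intro b
    have h := Cfsg.Agent.Lib.Helper5.centerThompsonAOf_map (conjAct A K hAK b).toMonoidHom
      (P : Subgroup K) (by
        have hinj : Function.Injective (conjAct A K hAK b).toMonoidHom :=
          (conjAct A K hAK b).injective
        rw [(MonoidHom.ker_eq_bot_iff _).mpr hinj, inf_bot_eq])
    rw [hPτ b] at h
    rw [hZdef]; exact h.symm
  have hZP : Z ≤ P := by
    rw [hZdef]
    exact inf_le_left.trans (Subgroup.map_subtype_le _)
  have hPne : (P : Subgroup K) ≠ ⊥ := P.ne_bot_of_dvd_card hqd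
  have hZne : Z ≠ ⊥ := by
    rw [hZdef, Cfsg.Agent.Lib.Helper5.centerThompsonAOf_eq_map, Ne,
      Subgroup.map_eq_bot_iff_of_injective _ (Subgroup.subtype_injective _)]
    intro e
    have : Nontrivial (P : Subgroup K) := (Subgroup.nontrivial_iff_ne_bot _).mpr hPne
    have h1 := P.2.center_nontrivial
    have h2 : Subgroup.center (P : Subgroup K) ≤ ⊥ := by
      rw [← e]; exact Cfsg.Agent.Lib.Helper5.center_le_zjA
    rw [le_bot_iff] at h2
    rw [Subgroup.nontrivial_iff_ne_bot] at h1
    exact h1 h2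
  have hmapA : ∀ U : Subgroup K, (∀ b : A, U.map (conjAct A K hAK b).toMonoidHom ≤ U) →
      a ∈ Subgroup.normalizer ((U.map K.subtype : Subgroup X) : Set X) := by
    intro U hU
    have h1 : A ≤ Subgroup.normalizer ((U.map K.subtype : Subgroup X) : Set X) := by
      apply le_normalizer_of_forall_conj_mem
      rintro b hb _ ⟨x, hx, rfl⟩
      exact ⟨conjAct A K hAK ⟨b, hb⟩ x, hU ⟨b, hb⟩ ⟨x, hx, rfl⟩, rfl⟩
    exact h1 haA
  have hmapne : ∀ U : Subgroup K, U ≠ ⊤ → U.map K.subtype ≠ K := by
    intro U hU e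
    apply hU
    rw [eq_top_iff]
    intro x _
    have h1 : (x : X) ∈ U.map K.subtype := by rw [e]; exact x.2
    obtain ⟨y, hy, hyx⟩ := h1
    have : y = x := Subtype.ext hyx
    rw [← this]; exact hy
  have hnilmap : ∀ U : Subgroup K, Group.IsNilpotent (U.map K.subtype) → Group.IsNilpotent U := by
    intro U hU
    exact Group.nilpotent_of_mulEquiv (U.equivMapOfInjective K.subtype K.subtype_injective).symm
  by_cases hL : Subgroup.normalizer (Z : Set K) = ⊤
  · have hZn : Z.Normal := Subgroup.normalizer_eq_top_iff.mp hL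
    obtain ⟨G', _, _, f, hf, hker, hnil⟩ := ihq (Z.map K.subtype) (Subgroup.map_subtype_le _)
      (by
        rw [Ne, Subgroup.map_eq_bot_iff_of_injective _ K.subtype_injective]
        exact hZne)
      (by
        apply le_normalizer_of_forall_conj_mem
        rintro k hk _ ⟨n, hn, rfl⟩
        exact ⟨⟨k, hk⟩ * n * ⟨k, hk⟩⁻¹, hZn.conj_mem n hn ⟨k, hk⟩, rfl⟩)
      (hmapA Z (fun b => (hZτ b).le))
    have hker' : f.ker = Z := by
      rw [hker]
      exact Subgroup.comap_map_eq_self_of_injective K.subtype_injective Z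
    have h1 : Group.IsSolvable f.ker := by
      rw [hker']
      exact Cfsg.Agent.Lib.Helper1.isSolvable_of_isPGroup (P.2.to_le hZP)
    have h2 : Group.IsSolvable G' := inferInstance
    exact Group.isSolvable_of_ker_le_range f.ker.subtype f (by simp)
  · have hLτ : ∀ b : A, (Subgroup.normalizer (Z : Set K)).map (conjAct A K hAK b).toMonoidHom
        ≤ Subgroup.normalizer (Z : Set K) := by
      intro b
      apply le_normalizer_of_forall_conj_mem
      rintro _ ⟨x, hx, rfl⟩ z hz
      rw [← hZτ b] at hz ⊢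
      obtain ⟨w, hw, rfl⟩ := hz
      refine ⟨x * w * x⁻¹, (Subgroup.mem_normalizer_iff.mp hx w).mp hw, ?_⟩
      simp
    have hLnil := hnilmap _ (ihs _ (Subgroup.map_subtype_le _) (hmapne _ hL) (hmapA _ hLτ))
    have hN := hasNormalPComplement_of_isNilpotent q hLnil
    rw [hZdef] at hN
    obtain ⟨P', T, hTn, hTc⟩ := Cfsg.Agent.S0659.result hq2 P hN
    have hTq := Cfsg.Agent.Lib.Helper13.isPGroup_quotient_of_isComplement' hTc
    have hTcop := Cfsg.Agent.Lib.Helper13.card_coprime_of_isComplement' hTc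
    have hTmem : ∀ x : K, x ∈ T ↔ (orderOf x).Coprime q := by
      intro x
      constructor
      · intro hx
        have h1 : orderOf x ∣ Nat.card T := by
          have := orderOf_dvd_natCard (⟨x, hx⟩ : T)
          rwa [Subgroup.orderOf_mk] at this
        exact Nat.Coprime.coprime_dvd_left h1 hTcop
      · intro hx
        exact Cfsg.Agent.Lib.Lead.pResidual_le_of_isPGroup_quotient T hTq
          (Cfsg.Agent.Lib.Lead.mem_pResidual_of_coprime hx)
    have hTτ : ∀ b : A, T.map (conjAct A K hAK b).toMonoidHom ≤ T := by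
      rintro b _ ⟨x, hx, rfl⟩
      have hx : x ∈ T := hx
      rw [hTmem] at hx ⊢
      have : orderOf ((conjAct A K hAK b).toMonoidHom x) = orderOf x :=
        MulEquiv.orderOf_eq (conjAct A K hAK b) x
      rw [this]; exact hx
    have hTne : T ≠ ⊤ := by
      intro e
      rw [e, Subgroup.isComplement'_top_left] at hTc
      exact P'.ne_bot_of_dvd_card hqd hTc
    have hTnil := hnilmap _ (ihs _ (Subgroup.map_subtype_le _) (hmapne _ hTne) (hmapA _ hTτ))
    have h1 : Group.IsSolvable T := inferInstance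
    have h2 : Group.IsSolvable (K ⧸ T) := Cfsg.Agent.Lib.Helper1.isSolvable_of_isPGroup hTq
    exact (Group.isSolvable_iff_subgroup_quotient T).mpr ⟨h1, h2⟩

/-- **Kegel's theorem**, internal form, by induction. -/
theorem kegel_aux (p : ℕ) (hp : p.Prime) (n : ℕ) :
    ∀ (X : Type u) [Group X] [Finite X] (K : Subgroup X) (a : X),
      a ∈ Subgroup.normalizer (K : Set X) → (∀ k ∈ K, (k * a) ^ p = 1) → Nat.card K = n →
      Group.IsNilpotent K := by
  induction n using Nat.strong_induction_on with
  | _ n ih =>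
    intro X _ _ K a haK hs hn
    have ihs : ∀ b : X, (∀ k ∈ K, (k * b) ^ p = 1) → ∀ M : Subgroup X, M ≤ K → M ≠ K →
        b ∈ Subgroup.normalizer (M : Set X) → Group.IsNilpotent M := by
      intro b hb M hMK hne hbM
      apply ih (Nat.card M) _ X M b hbM (fun k hk => hb k (hMK hk)) rfl
      rw [← hn]
      exact Cfsg.Agent.Lib.Helper1.card_lt_of_lt (lt_of_le_of_ne hMK hne)
    have ihq : ∀ b : X, b ∈ Subgroup.normalizer (K : Set X) → (∀ k ∈ K, (k * b) ^ p = 1) →
        ∀ M : Subgroup X, M ≤ K → M ≠ ⊥ → K ≤ Subgroup.normalizer (M : Set X) →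
        b ∈ Subgroup.normalizer (M : Set X) →
        ∃ (G' : Type u) (_ : Group G') (_ : Finite G') (f : K →* G'), Function.Surjective f ∧
          f.ker = M.subgroupOf K ∧ Group.IsNilpotent G' := by
      intro b hbK hb M hMK hne hKM hbM
      obtain ⟨X', _, _, K', a', f, h1, h2, h4, h5⟩ :=
        exists_quotient_data_splits K M b p hbK hb hMK hKM hbM
      refine ⟨K', inferInstance, inferInstance, f, h4, h5, ?_⟩
      apply ih (Nat.card K') _ X' K' a' h1 h2 rfl
      rw [← hn]
      have e1 : Nat.card K = Nat.card (K ⧸ f.ker) * Nat.card f.ker :=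
        Subgroup.card_eq_card_quotient_mul_card_subgroup f.ker
      have e2 : Nat.card (K ⧸ f.ker) = Nat.card K' :=
        Nat.card_congr (QuotientGroup.quotientKerEquivOfSurjective f h4).toEquiv
      have e3 : 1 < Nat.card f.ker := by
        rw [h5, Subgroup.one_lt_card_iff_ne_bot, Ne, Subgroup.subgroupOf_eq_bot, disjoint_iff,
          inf_eq_left.mpr hMK]
        exact hne
      rw [e1, e2]
      have e4 : 0 < Nat.card K' := Nat.card_pos
      nlinarith
    have hap : a ^ p = 1 := by simpa using hs 1 K.one_mem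
    have hsolv : Group.IsSolvable K := by
      by_cases hp2 : p = 2
      · subst hp2
        have hinv : ∀ x ∈ K, a * x * a⁻¹ = x⁻¹ := by
          intro x hx
          have h1 := hs x hx
          have h2 : a⁻¹ = a := by
            rw [inv_eq_iff_mul_eq_one, ← pow_two]; exact hap
          rw [h2]
          rw [pow_two] at h1
          have h3 : x * (a * x * a) = 1 := by rw [← h1]; group
          exact eq_inv_of_mul_eq_one_right h3
        apply Group.isSolvable_of_comm
        rintro ⟨x, hx⟩ ⟨y, hy⟩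
        apply Subtype.ext
        have h1 := hinv (x * y) (K.mul_mem hx hy)
        have h2 : a * (x * y) * a⁻¹ = (a * x * a⁻¹) * (a * y * a⁻¹) := by group
        rw [h2, hinv x hx, hinv y hy, mul_inv_rev] at h1
        have h3 : (x⁻¹ * y⁻¹)⁻¹ = (y⁻¹ * x⁻¹)⁻¹ := by rw [h1]
        simpa using h3.symm
      · by_cases hpK : p ∣ Nat.card K
        · have := Fact.mk hp
          obtain ⟨P⟩ : Nonempty (Sylow p K) := inferInstance
          obtain ⟨k₀, hk₀, hb⟩ := exists_mul_mem_normalizer_sylow K a haK p P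
          have hbK : k₀ * a ∈ Subgroup.normalizer (K : Set X) :=
            (Subgroup.normalizer (K : Set X)).mul_mem (Subgroup.le_normalizer hk₀) haK
          have hbs : ∀ k ∈ K, (k * (k₀ * a)) ^ p = 1 := by
            intro k hk
            have := hs (k * k₀) (K.mul_mem hk hk₀)
            simpa [mul_assoc] using this
          exact kegel_stepC p hp2 K (k₀ * a) hbK hpK P hb (ihs _ hbs) (ihq _ hbK hbs)
        · have hnil : Group.IsNilpotent K := by
            apply thompson_fpf p hp K a hap haK
            rw [eq_bot_iff]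
            intro x hx
            obtain ⟨hxK, hxC⟩ := Subgroup.mem_inf.mp hx
            rw [Subgroup.mem_centralizer_singleton_iff] at hxC
            have h1 := hs x hxK
            have hc : Commute x a := hxC
            rw [hc.mul_pow, hap, mul_one] at h1
            have h2 : orderOf x ∣ p := orderOf_dvd_of_pow_eq_one h1
            have h3 : orderOf x ∣ Nat.card K := by
              have := orderOf_dvd_natCard (⟨x, hxK⟩ : K)
              rwa [Subgroup.orderOf_mk] at this
            have h4 : (p).Coprime (Nat.card K) := (hp.coprime_iff_not_dvd).mpr hpK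
            rw [Subgroup.mem_bot]
            exact orderOf_eq_one_iff.mp (Nat.eq_one_of_dvd_coprimes h4 h2 h3)
          infer_instance
    exact kegel_stepB p hp K a haK hs hsolv (ihq a haK hs)

/-- **Kegel's theorem**, internal form: a subgroup `K` normalised by an element `a` such that
every element of the coset `K a` has trivial `p`-th power (`p` prime) is nilpotent. -/
theorem kegel_splitting {X : Type u} [Group X] [Finite X] (p : ℕ) (hp : p.Prime) (K : Subgroup X)
    (a : X) (haK : a ∈ Subgroup.normalizer (K : Set X)) (hs : ∀ k ∈ K, (k * a) ^ p = 1) :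
    Group.IsNilpotent K :=
  kegel_aux p hp _ X K a haK hs rfl

end Cfsg.Agent.Lib.Helper15
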