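import Mathlib

set_option autoImplicit false

/-! Order types of finite groups: counting solutions of `x ^ n = 1`, multiplicativity,
sign-twisted counts for kernels of pairs of sign characters. -/

namespace Cfsg.Agent.Lib.Helper15.OTBasic

/-- number of solutions of `x ^ n = 1` -/
noncomputable def cnt (X : Type) [Group X] (n : ℕ) : ℕ := Nat.card {x : X // x ^ n = 1}

lemma cnt_eq_card (X : Type) [Group X] [Fintype X] [DecidableEq X] (n : ℕ) :
    cnt X n = (Finset.univ.filter (fun x : X => x ^ n = 1)).card := by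
  unfold cnt
  rw [Nat.card_eq_fintype_card, Fintype.card_subtype]

lemma cnt_prod (X Y : Type) [Group X] [Group Y] (n : ℕ) :
    cnt (X × Y) n = cnt X n * cnt Y n := by
  unfold cnt
  rw [← Nat.card_prod]
  apply Nat.card_congr
  refine (Equiv.subtypeEquivRight ?_).trans
    (Equiv.subtypeProdEquivProd (p := fun x : X => x ^ n = 1) (q := fun y : Y => y ^ n = 1))
  intro p
  rw [Prod.ext_iff]
  rfl

/-- the divisors of `84` -/
def D : Fin 12 → ℕ := ![1, 2, 3, 4, 6, 7, 12, 14, 21, 28, 42, 84]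

lemma D_surj : ∀ d ∈ Nat.divisors 84, ∃ i, D i = d := by decide

/-- exponent divides `84` and the counts are given by the table `T` -/
def HasTab (X : Type) [Group X] (T : Fin 12 → ℕ) : Prop :=
  (∀ x : X, x ^ 84 = 1) ∧ ∀ i, cnt X (D i) = T i

lemma HasTab.prod {X Y : Type} [Group X] [Group Y] {T T' : Fin 12 → ℕ}
    (h : HasTab X T) (h' : HasTab Y T') : HasTab (X × Y) (fun i => T i * T' i) := by
  refine ⟨fun p => Prod.ext (h.1 p.1) (h'.1 p.2), fun i => ?_⟩
  rw [cnt_prod, h.2, h'.2]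

lemma HasTab.of_fintype {X : Type} [Group X] [Fintype X] [DecidableEq X] {T : Fin 12 → ℕ}
    (h1 : ∀ x : X, x ^ 84 = 1)
    (h2 : ∀ i, (Finset.univ.filter (fun x : X => x ^ (D i) = 1)).card = T i) : HasTab X T :=
  ⟨h1, fun i => by rw [cnt_eq_card, h2]⟩

lemma cnt_gcd {X : Type} [Group X] (h : ∀ x : X, x ^ 84 = 1) (n : ℕ) :
    cnt X n = cnt X (Nat.gcd n 84) := by
  unfold cnt
  apply Nat.card_congr
  apply Equiv.subtypeEquivRight
  intro x
  rw [pow_gcd_eq_one]
  exact ⟨fun hx => ⟨hx, h x⟩, fun hx => hx.1⟩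

lemma cnt_eq_of_hasTab {X Y : Type} [Group X] [Group Y] {T : Fin 12 → ℕ}
    (h : HasTab X T) (h' : HasTab Y T) (n : ℕ) : cnt X n = cnt Y n := by
  rw [cnt_gcd h.1, cnt_gcd h'.1]
  obtain ⟨i, hi⟩ := D_surj (Nat.gcd n 84)
    (Nat.mem_divisors.mpr ⟨Nat.gcd_dvd_right n 84, by norm_num⟩)
  rw [← hi, h.2, h'.2]

/-- equal counts of solutions of `x ^ n = 1` for all `n` give the same order type -/
lemma orderType_eq {X Y : Type} [Group X] [Group Y] [Finite X] [Finite Y]
    (h : ∀ n, cnt X n = cnt Y n) (n : ℕ) :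
    Nat.card {x : X // orderOf x = n} = Nat.card {y : Y // orderOf y = n} := by
  classical
  haveI := Fintype.ofFinite X
  haveI := Fintype.ofFinite Y
  induction n using Nat.strong_induction_on with
  | _ n ih =>
    rcases Nat.eq_zero_or_pos n with rfl | hn
    · have h1 : IsEmpty {x : X // orderOf x = 0} := ⟨fun x => (orderOf_pos x.1).ne' x.2⟩
      have h2 : IsEmpty {y : Y // orderOf y = 0} := ⟨fun x => (orderOf_pos x.1).ne' x.2⟩
      rw [Nat.card_of_isEmpty, Nat.card_of_isEmpty]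
    · have hX := sum_card_orderOf_eq_card_pow_eq_one (G := X) hn.ne'
      have hY := sum_card_orderOf_eq_card_pow_eq_one (G := Y) hn.ne'
      have hc := h n
      rw [cnt_eq_card, cnt_eq_card, ← hX, ← hY] at hc
      rw [← Nat.cons_self_properDivisors hn.ne', Finset.sum_cons, Finset.sum_cons] at hc
      have hs : ∑ m ∈ n.properDivisors, (Finset.univ.filter (fun x : X => orderOf x = m)).card
          = ∑ m ∈ n.properDivisors, (Finset.univ.filter (fun y : Y => orderOf y = m)).card := by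
        apply Finset.sum_congr rfl
        intro m hm
        have := ih m (Nat.mem_properDivisors.mp hm).2
        rwa [Nat.card_eq_fintype_card, Nat.card_eq_fintype_card, Fintype.card_subtype,
          Fintype.card_subtype] at this
      rw [hs] at hc
      rw [Nat.card_eq_fintype_card, Nat.card_eq_fintype_card, Fintype.card_subtype,
        Fintype.card_subtype]
      exact Nat.add_right_cancel hc

section W

variable {X Y : Type} [Group X] [Group Y] [Fintype X] [Fintype Y] [DecidableEq X] [DecidableEq Y]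

/-- weighted count -/
def wsum (u : X → ℤ) (n : ℕ) : ℤ := ∑ x : X, if x ^ n = 1 then u x else 0

lemma wsum_prod (u : X → ℤ) (v : Y → ℤ) (n : ℕ) :
    wsum (fun p : X × Y => u p.1 * v p.2) n = wsum u n * wsum v n := by
  unfold wsum
  rw [Fintype.sum_prod_type, Finset.sum_mul_sum]
  apply Finset.sum_congr rfl
  intro x _
  apply Finset.sum_congr rfl
  intro y _
  have : ((x, y) ^ n = (1 : X × Y)) ↔ (x ^ n = 1 ∧ y ^ n = 1) := by
    rw [Prod.ext_iff]; rfl
  by_cases hx : x ^ n = 1 <;> by_cases hy : y ^ n = 1 <;> simp [this, hx, hy]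

/-- the four sign-twisted counts -/
def W (α β : X →* ℤˣ) (n : ℕ) : ℤ × ℤ × ℤ × ℤ :=
  (wsum (fun _ : X => 1) n, wsum (fun x : X => ((α x : ℤˣ) : ℤ)) n,
    wsum (fun x : X => ((β x : ℤˣ) : ℤ)) n, wsum (fun x : X => ((α x : ℤˣ) : ℤ) * ((β x : ℤˣ) : ℤ)) n)

lemma W_coprod (α β : X →* ℤˣ) (α' β' : Y →* ℤˣ) (n : ℕ) :
    W (α.coprod α') (β.coprod β') n = W α β n * W α' β' n := by
  unfold W
  rw [Prod.mk_mul_mk, Prod.mk_mul_mk, Prod.mk_mul_mk, ← wsum_prod, ← wsum_prod, ← wsum_prod,
    ← wsum_prod]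
  refine Prod.ext ?_ (Prod.ext ?_ (Prod.ext ?_ ?_))
  · simp
  · simp [MonoidHom.coprod_apply]
  · simp [MonoidHom.coprod_apply]
  · show wsum _ n = wsum _ n
    congr 1
    funext p
    simp only [MonoidHom.coprod_apply, Units.val_mul]
    ring

lemma four_cnt (α β : X →* ℤˣ) (n : ℕ) :
    (4 * (cnt ↥(α.ker ⊓ β.ker) n : ℤ)) =
      (W α β n).1 + (W α β n).2.1 + (W α β n).2.2.1 + (W α β n).2.2.2 := by
  have h1 : cnt ↥(α.ker ⊓ β.ker) n
      = (Finset.univ.filter (fun x : X => x ^ n = 1 ∧ α x = 1 ∧ β x = 1)).card := by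
    unfold cnt
    rw [← Fintype.card_subtype, ← Nat.card_eq_fintype_card]
    apply Nat.card_congr
    refine ((Equiv.subtypeEquivRight ?_).trans
      (Equiv.subtypeSubtypeEquivSubtypeInter (fun x : X => x ∈ α.ker ⊓ β.ker)
        (fun x : X => x ^ n = 1))).trans (Equiv.subtypeEquivRight ?_)
    · intro k
      rw [Subtype.ext_iff]
      rfl
    · intro x
      rw [Subgroup.mem_inf, MonoidHom.mem_ker, MonoidHom.mem_ker]
      tauto
  rw [h1, Finset.card_filter]
  unfold W wsum
  simp only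
  rw [← Finset.sum_add_distrib, ← Finset.sum_add_distrib, ← Finset.sum_add_distrib]
  push_cast
  rw [Finset.mul_sum]
  apply Finset.sum_congr rfl
  intro x _
  by_cases hx : x ^ n = 1
  · rcases Int.units_eq_one_or (α x) with ha | ha <;> rcases Int.units_eq_one_or (β x) with hb | hb <;>
      simp [hx, ha, hb]
  · simp [hx]

lemma hasTab_ker (α β : X →* ℤˣ) (T : Fin 12 → ℕ) (hexp : ∀ x : X, x ^ 84 = 1)
    (h : ∀ i, (W α β (D i)).1 + (W α β (D i)).2.1 + (W α β (D i)).2.2.1 + (W α β (D i)).2.2.2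
      = 4 * (T i : ℤ)) : HasTab ↥(α.ker ⊓ β.ker) T := by
  refine ⟨fun k => Subtype.ext (hexp k.1), fun i => ?_⟩
  have := four_cnt α β (D i)
  rw [h i] at this
  omega

end W

lemma isSolvable_of_sign {X : Type} [Group X] (α : X →* ℤˣ)
    (h : ∀ a b : X, α a = 1 → α b = 1 → a * b = b * a) : Group.IsSolvable X := by
  haveI : Group.IsSolvable α.ker := Group.isSolvable_of_comm (fun a b =>
    Subtype.ext (h a.1 b.1 (MonoidHom.mem_ker.mp a.2) (MonoidHom.mem_ker.mp b.2)))
  exact Group.isSolvable_of_ker_le_range α.ker.subtype α (by rw [Subgroup.range_subtype])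

lemma isSolvable_semidirect {N G : Type} [Group N] [Group G] (φ : G →* MulAut N)
    [Group.IsSolvable N] [Group.IsSolvable G] : Group.IsSolvable (N ⋊[φ] G) :=
  Group.isSolvable_of_ker_le_range (SemidirectProduct.inl : N →* N ⋊[φ] G)
    SemidirectProduct.rightHom (SemidirectProduct.range_inl_eq_ker_rightHom).ge

end Cfsg.Agent.Lib.Helper15.OTBasic
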