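import Mathlib
import Cfsg.Agent.Lib.Helper15.OTBasic

set_option autoImplicit false

/-! The solvable group `AΓL₁(8) = 2³ : 7 : 3` of order `168` and its order statistics. -/

namespace Cfsg.Agent.Lib.Helper15.OTQ

open Cfsg.Agent.Lib.Helper15.OTBasic

/-- the homomorphism `i ↦ g ^ i` from `ℤ/n` -/
def powHom {H : Type} [Group H] (n : ℕ) [NeZero n] (g : H) (hg : g ^ n = 1) :
    Multiplicative (ZMod n) →* H where
  toFun i := g ^ (Multiplicative.toAdd i).val
  map_one' := by simp
  map_mul' a b := by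
    rw [toAdd_mul, ZMod.val_add, ← pow_eq_pow_mod _ hg, pow_add]

abbrev V : Type := Bool × Bool × Bool
abbrev MV : Type := Multiplicative V

/-- multiplication by a primitive element of `𝔽₈` -/
def sAdd : V ≃+ V where
  toFun v := (v.2.2, v.1 + v.2.2, v.2.1)
  invFun v := (v.1 + v.2.1, v.2.2, v.1)
  left_inv := by decide
  right_inv := by decide
  map_add' := by decide

/-- the Frobenius map of `𝔽₈` -/
def tAdd : V ≃+ V where
  toFun v := (v.1, v.2.2, v.2.1 + v.2.2)
  invFun v := (v.1, v.2.1 + v.2.2, v.2.1)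
  left_inv := by decide
  right_inv := by decide
  map_add' := by decide

def sM : MulAut MV := AddEquiv.toMultiplicative sAdd
def tM : MulAut MV := AddEquiv.toMultiplicative tAdd

lemma sM_pow : sM ^ 7 = 1 := by
  apply MulEquiv.ext; decide
lemma tM_pow : tM ^ 3 = 1 := by
  apply MulEquiv.ext; decide

def u7 : (ZMod 7)ˣ := ⟨2, 4, by decide, by decide⟩
lemma u7_pow : u7 ^ 3 = 1 := by decide

/-- the action of `ℤ/3` on `ℤ/7` -/
def ψ : Multiplicative (ZMod 3) →* MulAut (Multiplicative (ZMod 7)) :=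
  ((MulAutMultiplicative (ZMod 7)).symm.toMonoidHom.comp
    (DistribMulAction.toAddAut (ZMod 7)ˣ (ZMod 7))).comp (powHom 3 u7 u7_pow)

/-- the Frobenius group of order `21` -/
abbrev F21 : Type := Multiplicative (ZMod 7) ⋊[ψ] Multiplicative (ZMod 3)

instance : Fintype F21 := Fintype.ofEquiv _ SemidirectProduct.equivProd.symm

lemma compat (g : Multiplicative (ZMod 3)) :
    (powHom 7 sM sM_pow).comp (ψ g).toMonoidHom
      = (MulAut.conj (powHom 3 tM tM_pow g)).toMonoidHom.comp (powHom 7 sM sM_pow) := by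
  apply MonoidHom.ext; intro i; apply MulEquiv.ext; intro v
  revert g i v; decide

/-- the action of `7 : 3` on `𝔽₈` -/
def φ : F21 →* MulAut MV :=
  SemidirectProduct.lift (powHom 7 sM sM_pow) (powHom 3 tM tM_pow) compat

/-- `AΓL₁(8)` -/
abbrev Q : Type := MV ⋊[φ] F21

instance : Fintype Q := Fintype.ofEquiv _ SemidirectProduct.equivProd.symm

def TQ : Fin 12 → ℕ := ![1, 8, 57, 8, 120, 49, 120, 56, 105, 56, 168, 168]

set_option maxRecDepth 100000 in
lemma Q_exp : ∀ x : Q, x ^ 84 = 1 := by decide +kernel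

set_option maxRecDepth 100000 in
lemma Q_tab : ∀ i, (Finset.univ.filter (fun x : Q => x ^ (D i) = 1)).card = TQ i := by
  decide +kernel

lemma Q_hasTab : HasTab Q TQ := HasTab.of_fintype Q_exp Q_tab

instance : Group.IsSolvable F21 := isSolvable_semidirect ψ
instance Q_isSolvable : Group.IsSolvable Q := isSolvable_semidirect φ

end Cfsg.Agent.Lib.Helper15.OTQ
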