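import Mathlib

set_option autoImplicit false

namespace Cfsg.Agent.Lib.Helper15.S168

open Equiv

abbrev P8 := Perm (Fin 8)

def a : P8 := ⟨![1,2,3,4,5,6,0,7], ![6,0,1,2,3,4,5,7], by decide, by decide⟩
def b : P8 := ⟨![0,2,4,6,1,3,5,7], ![0,4,1,5,2,6,3,7], by decide, by decide⟩
def r : P8 := ⟨![0,3,6,2,5,1,4,7], ![0,5,3,1,6,4,2,7], by decide, by decide⟩
def t : P8 := ⟨![7,6,3,2,5,4,1,0], ![7,6,3,2,5,4,1,0], by decide, by decide⟩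

def Γ₀ : Subgroup P8 := Subgroup.closure {a, b, t}

theorem comm_a (Z : P8) (h : Z * a = a * Z) : ∃ j : Fin 7, Z = a ^ (j:ℕ) := by
  have h7 : Z 7 = 7 := by
    have h1 : a (Z 7) = Z 7 := by
      have h2 := congrArg (fun f : P8 => f 7) h
      simp only [Perm.mul_apply] at h2
      rw [← h2]; rfl
    exact (by decide : ∀ i : Fin 8, a i = i → i = 7) _ h1
  have hpow : ∀ n : ℕ, ∀ i, Z ((a^n) i) = (a^n) (Z i) := by
    intro n i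
    have h1 : Z * a^n = a^n * Z := (Commute.pow_right (show Commute Z a from h) n)
    exact congrArg (fun f : P8 => f i) h1
  have h0 : Z 0 ≠ 7 := by
    intro h0
    have h1 := Z.injective (h0.trans h7.symm)
    exact absurd h1 (by decide)
  obtain ⟨j, hj⟩ : ∃ j : Fin 7, Z 0 = (a^(j:ℕ)) 0 :=
    (by decide : ∀ m : Fin 8, m ≠ 7 → ∃ j : Fin 7, m = (a^(j:ℕ)) 0) _ h0
  refine ⟨j, Equiv.ext fun i => ?_⟩
  rcases (by decide : ∀ i : Fin 8, i = 7 ∨ ∃ k : Fin 7, i = (a^(k:ℕ)) 0) i with rfl | ⟨k, rfl⟩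
  · rw [h7]; exact ((by decide : ∀ j : Fin 7, (a^(j:ℕ)) 7 = 7) j).symm
  · rw [hpow, hj, ← Perm.mul_apply, ← Perm.mul_apply, ← pow_add, ← pow_add, add_comm]

theorem norm_a (Y : P8) (k : Fin 7) (h : Y * a * Y⁻¹ = a^(k:ℕ)) :
    ∃ (e : Fin 6) (j : Fin 7), Y = r^(e:ℕ) * a^(j:ℕ) := by
  have hk : k ≠ 0 := by
    rintro rfl
    have h1 : a = 1 := by
      have h2 : Y * a * Y⁻¹ = 1 := by simpa using h
      have h3 : Y * a = Y := by simpa using mul_inv_eq_one.mp h2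
      simpa using h3
    exact absurd h1 (by decide)
  obtain ⟨e, he⟩ := (by decide : ∀ k : Fin 7, k ≠ 0 →
    ∃ e : Fin 6, r^(e:ℕ) * a * (r^(e:ℕ))⁻¹ = a^(k:ℕ)) k hk
  obtain ⟨j, hj⟩ := comm_a ((r^(e:ℕ))⁻¹ * Y) (by
    have h1 : Y * a = a^(k:ℕ) * Y := by rw [← h]; group
    have h2 : r^(e:ℕ) * a = a^(k:ℕ) * r^(e:ℕ) := by rw [← he]; group
    have h3 : (r^(e:ℕ))⁻¹ * a^(k:ℕ) = a * (r^(e:ℕ))⁻¹ := by
      rw [inv_mul_eq_iff_eq_mul, ← mul_assoc, h2]; group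
    rw [mul_assoc, h1, ← mul_assoc, h3, mul_assoc])
  exact ⟨e, j, by rw [← hj]; group⟩

theorem ord3 : ∀ (e : Fin 6) (j : Fin 7), (r^(e:ℕ) * a^(j:ℕ))^3 = 1 → r^(e:ℕ) * a^(j:ℕ) ≠ 1 →
    (r^(e:ℕ) = b ∨ r^(e:ℕ) = b^2) := by decide

def tab (u v : Fin 8) : Fin 8 → Fin 8 :=
  ![7, u, b⁻¹ u, v, b⁻¹ (b⁻¹ u), b⁻¹ (b⁻¹ v), b⁻¹ v, 0]

set_option maxRecDepth 100000 in
theorem tab_crit : ∀ u v : Fin 8, (∀ k : Fin 8, k ≠ 0 → k ≠ 7 → ∃ (i : Fin 7) (j : Fin 3),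
    ∀ x, tab u v ((a^((tab u v k : Fin 8):ℕ))⁻¹ (tab u v ((a^(k:ℕ)) (tab u v x)))) = (a^(i:ℕ) * b^(j:ℕ)) x) →
    (tab u v = t ∨ tab u v = (b * t * b⁻¹ : P8) ∨ tab u v = (b^2 * t * (b^2)⁻¹ : P8)) := by
  decide +kernel


theorem core (Γ : Subgroup P8) (ha : a ∈ Γ) (hb : b ∈ Γ)
    (R2 : ∀ σ ∈ Γ, σ 7 = 7 → ∃ (i : Fin 7) (j : Fin 3), σ = a^(i:ℕ) * b^(j:ℕ))
    (s : P8) (hs : s ∈ Γ) (hsb : s * b * s⁻¹ = b⁻¹) : Γ = Γ₀ := by
  have hrel : ∀ i, s (b i) = b⁻¹ (s i) := by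
    intro i
    have h1 : s * b = b⁻¹ * s := by rw [← hsb]; group
    exact congrArg (fun f : P8 => f i) h1
  have hfix : ∀ i : Fin 8, b⁻¹ i = i → i = 0 ∨ i = 7 := by decide
  have h7' : s 7 = 0 ∨ s 7 = 7 := hfix _ (by rw [← hrel]; rfl)
  have h0' : s 0 = 0 ∨ s 0 = 7 := hfix _ (by rw [← hrel]; rfl)
  have h7 : s 7 = 0 := by
    rcases h7' with h | h
    · exact h
    · exfalso
      obtain ⟨i, j, hij⟩ := R2 s hs h
      rw [hij] at hsb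
      exact (by decide : ∀ (i : Fin 7) (j : Fin 3),
        (a^(i:ℕ) * b^(j:ℕ)) * b * (a^(i:ℕ) * b^(j:ℕ))⁻¹ ≠ b⁻¹) i j hsb
  have h0 : s 0 = 7 := by
    rcases h0' with h | h
    · exact absurd (s.injective (h.trans h7.symm)) (by decide)
    · exact h
  have hT : (s : Fin 8 → Fin 8) = tab (s 1) (s 3) := by
    funext x
    have e2 : s 2 = b⁻¹ (s 1) := hrel 1
    have e4 : s 4 = b⁻¹ (b⁻¹ (s 1)) := by rw [← e2]; exact hrel 2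
    have e6 : s 6 = b⁻¹ (s 3) := hrel 3
    have e5 : s 5 = b⁻¹ (b⁻¹ (s 3)) := by rw [← e6]; exact hrel 6
    fin_cases x
    · exact h0
    · rfl
    · exact e2
    · rfl
    · exact e4
    · exact e5
    · exact e6
    · exact h7
  have hcrit := tab_crit (s 1) (s 3) (by
    rw [← hT]
    intro k hk0 hk7
    have hw : s * (a^((s k : Fin 8):ℕ))⁻¹ * s * a^(k:ℕ) * s ∈ Γ :=
      Γ.mul_mem (Γ.mul_mem (Γ.mul_mem (Γ.mul_mem hs (Γ.inv_mem (Γ.pow_mem ha _))) hs)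
        (Γ.pow_mem ha _)) hs
    have hsk : s k ≠ 7 := by
      intro h
      exact hk0 (s.injective (h.trans h0.symm))
    have hw7 : (s * (a^((s k : Fin 8):ℕ))⁻¹ * s * a^(k:ℕ) * s) 7 = 7 := by
      simp only [Perm.mul_apply]
      rw [h7, (by decide : ∀ k : Fin 8, k ≠ 7 → (a^(k:ℕ)) 0 = k) k hk7,
        (by decide : ∀ m : Fin 8, m ≠ 7 → (a^(m:ℕ))⁻¹ m = 0) _ hsk, h0]
    obtain ⟨i, j, hij⟩ := R2 _ hw hw7
    refine ⟨i, j, fun x => ?_⟩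
    rw [← hij]
    simp only [Perm.mul_apply])
  have ht : t ∈ Γ := by
    rw [← hT] at hcrit
    rcases hcrit with h | h | h
    · have : s = t := Equiv.ext (congrFun h)
      exact this ▸ hs
    · have h1 : s = b * t * b⁻¹ := Equiv.ext (congrFun h)
      have h2 : t = b⁻¹ * s * b := by rw [h1]; group
      rw [h2]
      exact Γ.mul_mem (Γ.mul_mem (Γ.inv_mem hb) hs) hb
    · have h1 : s = b^2 * t * (b^2)⁻¹ := Equiv.ext (congrFun h)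
      have h2 : t = (b^2)⁻¹ * s * b^2 := by rw [h1]; group
      rw [h2]
      exact Γ.mul_mem (Γ.mul_mem (Γ.inv_mem (Γ.pow_mem hb 2)) hs) (Γ.pow_mem hb 2)
  have ha0 : a ∈ Γ₀ := Subgroup.subset_closure (by simp)
  have hb0 : b ∈ Γ₀ := Subgroup.subset_closure (by simp)
  have ht0 : t ∈ Γ₀ := Subgroup.subset_closure (by simp)
  apply le_antisymm
  · intro σ hσ
    by_cases hm : σ 7 = 7
    · obtain ⟨i, j, hij⟩ := R2 σ hσ hm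
      rw [hij]
      exact Γ₀.mul_mem (Γ₀.pow_mem ha0 _) (Γ₀.pow_mem hb0 _)
    · have hw : t * (a^((σ 7 : Fin 8):ℕ))⁻¹ * σ ∈ Γ :=
        Γ.mul_mem (Γ.mul_mem ht (Γ.inv_mem (Γ.pow_mem ha _))) hσ
      have hw7 : (t * (a^((σ 7 : Fin 8):ℕ))⁻¹ * σ) 7 = 7 := by
        simp only [Perm.mul_apply]
        rw [(by decide : ∀ m : Fin 8, m ≠ 7 → (a^(m:ℕ))⁻¹ m = 0) _ hm]
        rfl
      obtain ⟨i, j, hij⟩ := R2 _ hw hw7
      have h2 : σ = a^((σ 7 : Fin 8):ℕ) * t⁻¹ * (a^(i:ℕ) * b^(j:ℕ)) := by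
        rw [← hij]; group
      rw [h2]
      exact Γ₀.mul_mem (Γ₀.mul_mem (Γ₀.pow_mem ha0 _) (Γ₀.inv_mem ht0))
        (Γ₀.mul_mem (Γ₀.pow_mem ha0 _) (Γ₀.pow_mem hb0 _))
  · rw [Γ₀, Subgroup.closure_le]
    intro x hx
    simp only [Set.mem_insert_iff, Set.mem_singleton_iff] at hx
    rcases hx with rfl | rfl | rfl
    · exact ha
    · exact hb
    · exact ht

end Cfsg.Agent.Lib.Helper15.S168
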