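import Mathlib
import Cfsg.Agent.Lib.Helper15.S168

set_option autoImplicit false

namespace Cfsg.Agent.Lib.Helper15.S168

open Equiv

theorem sylow_card' {G : Type*} [Group G] [Finite G] (p n m : ℕ) [hp : Fact p.Prime]
    (h : Nat.card G = p ^ n * m) (hm : ¬ p ∣ m) : (Nat.card G).factorization p = n := by
  have hm0 : m ≠ 0 := by rintro rfl; exact hm (dvd_zero p)
  rw [h, Nat.factorization_mul (pow_ne_zero _ hp.out.ne_zero) hm0, Nat.factorization_pow]
  simp [hp.out.factorization_self, Nat.factorization_eq_zero_of_not_dvd hm]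

section abs
variable {G : Type*} [Group G] [Finite G] [IsSimpleGroup G]

theorem card_sylow7 (h : Nat.card G = 168) : Nat.card (Sylow 7 G) = 8 := by
  have : Fact (Nat.Prime 7) := ⟨by norm_num⟩
  let P : Sylow 7 G := default
  have hPc : Nat.card (P : Subgroup G) = 7 := by
    rw [P.card_eq_multiplicity, sylow_card' 7 1 24 (by rw [h]; norm_num) (by norm_num)]; norm_num
  have h1 : Nat.card (Sylow 7 G) ≡ 1 [MOD 7] := card_sylow_modEq_one 7 G
  have h2 : Nat.card (Sylow 7 G) ∣ (P : Subgroup G).index := P.card_dvd_index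
  have h3 : (P : Subgroup G).index = 24 := by
    have := (P : Subgroup G).card_mul_index
    rw [hPc, h] at this; omega
  rw [h3] at h2
  have h4 : Nat.card (Sylow 7 G) ≤ 24 := Nat.le_of_dvd (by norm_num) h2
  have h5 : Nat.card (Sylow 7 G) % 7 = 1 := h1
  have h6 : Nat.card (Sylow 7 G) = 1 ∨ Nat.card (Sylow 7 G) = 8 := by
    generalize Nat.card (Sylow 7 G) = n at *
    interval_cases n <;> simp_all
  rcases h6 with h6 | h6
  · exfalso
    have : Subsingleton (Sylow 7 G) := (Nat.card_eq_one_iff_unique.mp h6).1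
    have hn : (P : Subgroup G).Normal := P.normal_of_subsingleton
    rcases hn.eq_bot_or_eq_top with hb | hb
    · rw [hb] at hPc; simp at hPc
    · rw [hb] at hPc; simp [h] at hPc
  · exact h6


/-- Burnside transfer consequence: in a simple group of order 168 an element of order 3 is inverted. -/
theorem exists_invert (h : Nat.card G = 168) (y : G) (hy : orderOf y = 3) :
    ∃ n : G, n * y * n⁻¹ = y⁻¹ := by
  have : Fact (Nat.Prime 3) := ⟨by norm_num⟩
  have hc : Nat.card (Subgroup.zpowers y) = 3 := by rw [Nat.card_zpowers, hy]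
  let Q : Sylow 3 G := Sylow.ofCard (Subgroup.zpowers y) (by
    rw [hc, sylow_card' 3 1 56 (by rw [h]; norm_num) (by norm_num)]; norm_num)
  have hQ : (Q : Subgroup G) = Subgroup.zpowers y := Sylow.coe_ofCard _ _
  by_contra hcon
  push Not at hcon
  have hP : Subgroup.normalizer ((Q : Subgroup G) : Set G) ≤ Subgroup.centralizer ((Q : Subgroup G) : Set G) := by
    intro n hn
    have h1 : n * y * n⁻¹ ∈ (Q : Subgroup G) :=
      (Subgroup.mem_normalizer_iff.mp hn y).mp (by rw [hQ]; exact Subgroup.mem_zpowers y)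
    rw [hQ, ← mem_powers_iff_mem_zpowers, Submonoid.mem_powers_iff] at h1
    obtain ⟨k, hk⟩ := h1
    have hk' : y ^ (k % 3) = n * y * n⁻¹ := by rw [← hk, ← hy, pow_mod_orderOf]
    have hy3 : y ^ 3 = 1 := by rw [← hy]; exact pow_orderOf_eq_one y
    have hy1 : y ≠ 1 := by
      rintro rfl; simp at hy
    have hcomm : n * y * n⁻¹ = y := by
      have hlt : k % 3 < 3 := Nat.mod_lt _ (by norm_num)
      interval_cases hkk : k % 3
      · exfalso
        rw [pow_zero] at hk'
        have : n * y = n := by simpa using (mul_inv_eq_one.mp hk'.symm)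
        exact hy1 (by simpa using this)
      · rw [← hk', pow_one]
      · exfalso
        apply hcon n
        rw [← hk']
        exact eq_inv_of_mul_eq_one_left (by rw [← pow_succ, hy3])
    rw [Subgroup.mem_centralizer_iff]
    intro z hz
    have hz' : z ∈ Subgroup.zpowers y := by rw [← hQ]; exact hz
    obtain ⟨m, rfl⟩ := Subgroup.mem_zpowers_iff.mp hz'
    have h2 : Commute n y := by
      show n * y = y * n
      exact mul_inv_eq_iff_eq_mul.mp hcomm
    exact ((h2.zpow_right m).eq).symm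
  have hcompl := MonoidHom.ker_transferSylow_isComplement' Q hP
  have hcard := hcompl.card_mul_card
  have hQc : Nat.card (Q : Subgroup G) = 3 := by rw [hQ, hc]
  rw [hQc, h] at hcard
  rcases (MonoidHom.normal_ker (MonoidHom.transferSylow Q hP)).eq_bot_or_eq_top with hb | hb
  · rw [hb] at hcard; simp at hcard
  · rw [hb] at hcard; simp [h] at hcard


theorem orderOf_a : orderOf a = 7 :=
  have : Fact (Nat.Prime 7) := ⟨by norm_num⟩
  orderOf_eq_prime (by decide) (by decide)
theorem orderOf_b : orderOf b = 3 :=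
  have : Fact (Nat.Prime 3) := ⟨by norm_num⟩
  orderOf_eq_prime (by decide) (by decide)

theorem cycleType_of_order7 (σ : P8) (h : orderOf σ = 7) : σ.cycleType = {7} := by
  have hc : σ.IsCycle := Equiv.Perm.isCycle_of_prime_order' (by rw [h]; norm_num) (by rw [h]; simp)
  rw [hc.cycleType, ← hc.orderOf, h]

/-- a transitive faithful action on 8 points in which a given element of order 7 acts as `a` -/
theorem exists_hom (h : Nat.card G = 168) : ∃ (φ : G →* P8) (x : G), Function.Injective φ ∧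
    (∀ i j : Fin 8, ∃ g, φ g i = j) ∧ orderOf x = 7 ∧ φ x = a := by
  have : Fact (Nat.Prime 7) := ⟨by norm_num⟩
  have hn := card_sylow7 h
  let ψ := MulAction.toPermHom G (Sylow 7 G)
  have hψ : Function.Injective ψ := by
    rw [← MonoidHom.ker_eq_bot_iff]
    rcases ψ.normal_ker.eq_bot_or_eq_top with hk | hk
    · exact hk
    · exfalso
      have hss : Subsingleton (Sylow 7 G) := ⟨fun P Q => by
        obtain ⟨g, hg⟩ := MulAction.exists_smul_eq G P Q
        have hg1 : ψ g = 1 := by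
          have : g ∈ ψ.ker := by rw [hk]; trivial
          exact this
        have : ψ g P = P := by rw [hg1]; rfl
        rw [← hg]; exact this.symm⟩
      have := Finite.card_le_one_iff_subsingleton.mpr hss
      omega
  let e : Sylow 7 G ≃ Fin 8 := Finite.equivFinOfCardEq hn
  let φ0 : G →* P8 := e.permCongrHom.toMonoidHom.comp ψ
  have hφ0 : Function.Injective φ0 := e.permCongrHom.injective.comp hψ
  obtain ⟨x, hx⟩ := exists_prime_orderOf_dvd_card' (G := G) 7 (by rw [h]; norm_num)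
  have ho : orderOf (φ0 x) = 7 := by rw [orderOf_injective φ0 hφ0, hx]
  have hconj : IsConj (φ0 x) a := by
    rw [Equiv.Perm.isConj_iff_cycleType_eq, cycleType_of_order7 _ ho, cycleType_of_order7 _ orderOf_a]
  obtain ⟨c, hc⟩ := isConj_iff.mp hconj
  refine ⟨(MulAut.conj c).toMonoidHom.comp φ0, x, (MulAut.conj c).injective.comp hφ0, ?_, hx, ?_⟩
  · intro i j
    obtain ⟨g, hg⟩ := MulAction.exists_smul_eq G (e.symm (c⁻¹ i)) (e.symm (c⁻¹ j))
    refine ⟨g, ?_⟩
    show (c * φ0 g * c⁻¹) i = j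
    have h1 : φ0 g (c⁻¹ i) = e (g • e.symm (c⁻¹ i)) := rfl
    rw [Perm.mul_apply, Perm.mul_apply, h1, hg]
    simp
  · exact hc


theorem exists_b (h : Nat.card G = 168) (φ : G →* P8) (x : G) (hφ : Function.Injective φ)
    (hx : orderOf x = 7) (hxa : φ x = a) : ∃ y : G, φ y = b := by
  have : Fact (Nat.Prime 7) := ⟨by norm_num⟩
  have : Fact (Nat.Prime 3) := ⟨by norm_num⟩
  have hc : Nat.card (Subgroup.zpowers x) = 7 := by rw [Nat.card_zpowers, hx]
  let P : Sylow 7 G := Sylow.ofCard (Subgroup.zpowers x) (by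
    rw [hc, sylow_card' 7 1 24 (by rw [h]; norm_num) (by norm_num)]; norm_num)
  have hP : (P : Subgroup G) = Subgroup.zpowers x := Sylow.coe_ofCard _ _
  have hidx : (Subgroup.normalizer ((P : Subgroup G) : Set G)).index = 8 := by
    have := P.card_eq_index_normalizer
    rw [card_sylow7 h] at this
    exact this.symm
  have hN : Nat.card (Subgroup.normalizer ((P : Subgroup G) : Set G)) = 21 := by
    have := (Subgroup.normalizer ((P : Subgroup G) : Set G)).card_mul_index
    rw [hidx, h] at this; omega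
  obtain ⟨y', hy'⟩ := exists_prime_orderOf_dvd_card'
    (G := Subgroup.normalizer ((P : Subgroup G) : Set G)) 3 (by rw [hN]; norm_num)
  have hy : orderOf (y' : G) = 3 := by rw [Subgroup.orderOf_coe, hy']
  have h1' : (y' : G) * x * (y' : G)⁻¹ ∈ (P : Subgroup G) :=
    (Subgroup.mem_normalizer_iff.mp y'.2 x).mp (by rw [hP]; exact Subgroup.mem_zpowers x)
  have h1 : (y' : G) * x * (y' : G)⁻¹ ∈ Subgroup.zpowers x := hP ▸ h1'
  rw [← mem_powers_iff_mem_zpowers, Submonoid.mem_powers_iff] at h1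
  obtain ⟨k, hk⟩ := h1
  have hk' : x ^ (k % 7) = (y' : G) * x * (y' : G)⁻¹ := by rw [← hk, ← hx, pow_mod_orderOf]
  have hY : φ y' * a * (φ y')⁻¹ = a ^ (((⟨k % 7, Nat.mod_lt _ (by norm_num)⟩ : Fin 7) : ℕ)) := by
    show φ y' * a * (φ y')⁻¹ = a ^ (k % 7)
    rw [← hxa, ← map_inv, ← map_mul, ← map_mul, ← hk', map_pow]
  obtain ⟨e, j, hej⟩ := norm_a _ _ hY
  have h3 : (φ y') ^ 3 = 1 := by
    rw [← map_pow, ← hy, pow_orderOf_eq_one, map_one]
  have hne : φ y' ≠ 1 := by
    intro h0
    have : (y' : G) = 1 := hφ (by rw [h0, map_one])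
    rw [this] at hy; simp at hy
  have hre : r ^ (e:ℕ) = φ ((y' : G) * (x ^ (j:ℕ))⁻¹) := by
    rw [map_mul, map_inv, map_pow, hxa, hej]; group
  rcases ord3 e j (hej ▸ h3) (hej ▸ hne) with hb | hb
  · exact ⟨_, by rw [← hre, hb]⟩
  · refine ⟨((y' : G) * (x ^ (j:ℕ))⁻¹) ^ 2, ?_⟩
    rw [map_pow, ← hre, hb]
    decide

theorem exists_range_eq (h : Nat.card G = 168) : ∃ φ : G →* P8, Function.Injective φ ∧ φ.range = Γ₀ := by
  obtain ⟨φ, x, hφ, htr, hx, hxa⟩ := exists_hom h
  obtain ⟨y, hy⟩ := exists_b h φ x hφ hx hxa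
  refine ⟨φ, hφ, ?_⟩
  have hyo : orderOf y = 3 := by rw [← orderOf_injective φ hφ, hy, orderOf_b]
  obtain ⟨n, hn⟩ := exists_invert h y hyo
  refine core φ.range ⟨x, hxa⟩ ⟨y, hy⟩ ?_ (φ n) ⟨n, rfl⟩ (by
    rw [← hy, ← map_inv, ← map_mul, ← map_mul, hn, map_inv])
  -- the point stabiliser
  let act : MulAction G (Fin 8) := MulAction.compHom (Fin 8) φ
  have hsm : ∀ (g : G) (i : Fin 8), g • i = φ g i := fun _ _ => rfl
  have htr' : MulAction.IsPretransitive G (Fin 8) := ⟨fun i j => htr i j⟩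
  have hidx : (MulAction.stabilizer G (7 : Fin 8)).index = 8 := by
    rw [MulAction.index_stabilizer_of_transitive]; simp
  have hS : Nat.card (MulAction.stabilizer G (7 : Fin 8)) = 21 := by
    have := (MulAction.stabilizer G (7 : Fin 8)).card_mul_index
    rw [hidx, h] at this; omega
  let f : Fin 7 × Fin 3 → MulAction.stabilizer G (7 : Fin 8) := fun p =>
    ⟨x ^ (p.1:ℕ) * y ^ (p.2:ℕ), by
      rw [MulAction.mem_stabilizer_iff, hsm, map_mul, map_pow, map_pow, hxa, hy]
      exact (by decide : ∀ p : Fin 7 × Fin 3, (a ^ (p.1:ℕ) * b ^ (p.2:ℕ)) 7 = 7) p⟩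
  have hf : Function.Injective f := by
    intro p q hpq
    have h1 : φ (f p : G) = φ (f q : G) := by rw [hpq]
    simp only [f, map_mul, map_pow, hxa, hy] at h1
    exact (by decide : ∀ p q : Fin 7 × Fin 3,
      a ^ (p.1:ℕ) * b ^ (p.2:ℕ) = a ^ (q.1:ℕ) * b ^ (q.2:ℕ) → p = q) p q h1
  have hbij : Function.Bijective f :=
    (Nat.bijective_iff_injective_and_card f).mpr ⟨hf, by rw [hS]; simp⟩
  rintro σ ⟨g, rfl⟩ hg
  obtain ⟨p, hp⟩ := hbij.2 ⟨g, by rw [MulAction.mem_stabilizer_iff, hsm]; exact hg⟩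
  refine ⟨p.1, p.2, ?_⟩
  have h2 : (f p : G) = g := by rw [hp]
  rw [← h2]
  simp only [f, map_mul, map_pow, hxa, hy]

theorem exists_iso (h : Nat.card G = 168) : Nonempty (G ≃* Γ₀) := by
  obtain ⟨φ, hφ, hr⟩ := exists_range_eq h
  exact ⟨(MonoidHom.ofInjective hφ).trans (MulEquiv.subgroupCongr hr)⟩

end abs

theorem iso_of_simple {G H : Type*} [Group G] [Finite G] [IsSimpleGroup G] [Group H] [Finite H]
    [IsSimpleGroup H] (hG : Nat.card G = 168) (hH : Nat.card H = 168) : Nonempty (G ≃* H) := by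
  obtain ⟨e1⟩ := exists_iso hG
  obtain ⟨e2⟩ := exists_iso hH
  exact ⟨e1.trans e2.symm⟩

end Cfsg.Agent.Lib.Helper15.S168
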