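import Mathlib
import Cfsg.Agent.Lib.Helper15.U33a

set_option autoImplicit false

namespace Cfsg.Agent.Lib.Helper15.U33

def A0 : List ℕ :=
  [538164, 544644, 708642, 885762, 1069524, 1076166, 1240056, 1417230, 14351256, 14353362,
   14526055, 14703203, 26286149, 26294735, 26522371, 26530957, 28413965, 28418501, 28650133, 28654669,
   28700082, 28702350, 28874963, 29052109, 35854273, 35858485, 36090497, 36094709]

def A1 : List ℕ :=
  [37977715, 37986625, 38213885, 38222795, 43048935, 43051149, 43053283, 43059845, 60246405, 60374543,
   60420213, 60518779, 61312509, 61437317, 61479873, 61581769, 62935631, 63010586, 63102163, 63127180,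
   63469583, 63540524, 63631093, 63660124, 74589075, 74749615, 74775357, 74841521]

def A2 : List ℕ :=
  [75654531, 75812551, 75835665, 75904349, 82054705, 82142380, 82246841, 82259138, 82588009, 82672480,
   82776419, 82791920, 86095683, 86097843, 86100005, 86106565, 103289805, 103447427, 103470255, 103539337,
   104349429, 104510363, 104536395, 104602165, 105971741, 106055768, 106159495, 106175440]

def A3 : List ℕ :=
  [106500671, 106588784, 106693447, 106705306, 117644949, 117770173, 117812925, 117914405, 118705221, 118832947,
   118878417, 118977395, 125116411, 125187724, 125278577, 125307236, 125645989, 125720578, 125811881, 125837264,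
   174527173, 174540215, 174702169, 174715211, 176650705, 176663909, 176830003, 176843207]

def A4 : List ℕ :=
  [196288493, 196291463, 196472203, 196475173, 205861075, 205863883, 206031659, 206034467, 230144437, 230172005,
   230365511, 230597347, 230677201, 230702123, 230899157, 231126583, 244494829, 244519427, 244707853, 244952819,
   245024623, 245052515, 245241499, 245482055, 316237907, 316265419, 316454579, 316695163]

def A5 : List ℕ :=
  [316770617, 316795591, 316983851, 317228773, 330588245, 330612895, 330810043, 331037513, 331118093, 331145929,
   331339315, 331571123, 346711871, 346724911, 346891241, 346904281, 348839777, 348852979, 349014701, 349027903,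
   368481911, 368484935, 368652499, 368655523, 378041371, 378044233, 378225077, 378227939]

def H168 : List ℕ := A0 ++ A1 ++ A2 ++ A3 ++ A4 ++ A5

set_option maxRecDepth 100000 in
def W85 : List (ℕ × ℕ × ℕ) :=
  [(538164, 544644, 63469583), (708642, 538164, 885762), (885762, 538164, 708642), (1069524, 544644, 174527173),
   (1076166, 544644, 63540524), (1240056, 544644, 885762), (1417230, 544644, 708642), (14351256, 538164, 28700082),
   (14353362, 708642, 538164), (26294735, 538164, 74841521), (26530957, 538164, 74749615), (28650133, 708642, 63660124),
   (28654669, 708642, 63540524), (28700082, 708642, 1076166), (28702350, 538164, 14351256), (35858485, 538164, 60518779),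
   (36094709, 538164, 60374543), (38213885, 708642, 61437317), (38222795, 708642, 61581769), (43053283, 538164, 538164),
   (43059845, 708642, 1240056), (60420213, 708642, 28650133), (60518779, 708642, 60518779), (61312509, 538164, 61581769),
   (61437317, 538164, 26294735), (63102163, 708642, 63102163), (63127180, 544644, 26522371), (63469583, 538164, 75835665),
   (63540524, 538164, 82142380), (63660124, 708642, 60420213), (74775357, 708642, 36090497), (74841521, 708642, 82791920),
   (75835665, 538164, 75812551), (75904349, 538164, 36094709), (82142380, 544644, 35854273), (82246841, 708642, 104536395),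
   (82588009, 708642, 38222795), (82776419, 538164, 61312509), (82791920, 538164, 63127180), (86100005, 538164, 544644),
   (86106565, 708642, 885762), (103470255, 708642, 28418501), (103539337, 708642, 60374543), (104536395, 538164, 61437317),
   (104602165, 538164, 26522371), (106055768, 544644, 26294735), (106159495, 708642, 62935631), (106500671, 708642, 26286149),
   (106693447, 538164, 75654531), (106705306, 538164, 82259138), (117812925, 708642, 35858485), (117914405, 708642, 82672480),
   (118705221, 538164, 75904349), (118832947, 538164, 35854273), (125278577, 708642, 104349429), (125307236, 544644, 36094709),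
   (125645989, 538164, 61479873), (125720578, 538164, 63010586), (125837264, 708642, 82776419), (174540215, 538164, 36090497),
   (174715211, 538164, 26286149), (176830003, 708642, 28654669), (176843207, 708642, 36094709), (196291463, 708642, 38213885),
   (196472203, 538164, 82246841), (205863883, 538164, 62935631), (206031659, 708642, 104510363), (230144437, 708642, 103470255),
   (230365511, 544644, 60518779), (230677201, 538164, 60246405), (230899157, 538164, 174527173), (231126583, 708642, 63469583),
   (244519427, 708642, 75835665), (244952819, 544644, 60420213), (245024623, 538164, 74775357), (245052515, 708642, 75812551),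
   (245482055, 538164, 174702169), (316265419, 708642, 103289805), (316695163, 544644, 60374543), (316770617, 538164, 60420213),
   (316795591, 708642, 103539337), (317228773, 538164, 174715211), (330588245, 708642, 75654531), (330810043, 544644, 60246405),
   (331118093, 538164, 74589075)]

def chk0 (x : ℕ) : Bool :=
  decide (x < 387420489) && (mulN (trN x) (cjN x) == oneN) && (detN x == 1)

theorem chk0_spec (n : ℕ) (h : chk0 n = true) :
    n < 387420489 ∧ mulN (trN n) (cjN n) = oneN ∧ detN n = 1 := by
  unfold chk0 at h
  simp only [Bool.and_eq_true, decide_eq_true_eq, beq_iff_eq] at h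
  exact ⟨h.1.1, h.1.2, h.2⟩

theorem chk0_of {L : List ℕ} (h : L.all chk0 = true) : ∀ n ∈ L,
    n < 387420489 ∧ mulN (trN n) (cjN n) = oneN ∧ detN n = 1 :=
  fun n hn => chk0_spec n (List.all_eq_true.1 h n hn)

def force (x : ℕ) (f : ℕ → Bool) : Bool :=
  match x with
  | 0 => f 0
  | n + 1 => f (n + 1)

theorem force_eq (x : ℕ) (f : ℕ → Bool) : force x f = f x := by
  cases x <;> rfl

def memB : List ℕ → ℕ → Bool
  | [], _ => false
  | h :: t, x => Nat.beq x h || memB t x

theorem memB_spec : ∀ (l : List ℕ) (x : ℕ), memB l x = true → x ∈ l
  | [], _, h => by simp [memB] at h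
  | c :: t, x, h => by
      simp only [memB, Bool.or_eq_true] at h
      rcases h with h | h
      · rw [Nat.eq_of_beq_eq_true h]
        exact List.mem_cons_self
      · exact List.mem_cons_of_mem _ (memB_spec t x h)

theorem closed_of {L : List ℕ}
    (h : L.all (fun a => L.all (fun b => force (mulN a b) (memB L))) = true) :
    ∀ a ∈ L, ∀ b ∈ L, mulN a b ∈ L := by
  intro a ha b hb
  have h1 := List.all_eq_true.1 h a ha
  have h2 := List.all_eq_true.1 h1 b hb
  rw [force_eq] at h2
  exact memB_spec _ _ h2

theorem cert_of {L : List ℕ} {W : List (ℕ × ℕ × ℕ)}
    (h : W.all (fun w => decide (w.1 ∈ L) && decide (w.2.1 ∈ L) && decide (w.2.2 ∈ L) &&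
      (mulN w.2.1 w.2.2 == mulN w.1 (mulN w.2.2 w.2.1))) = true) :
    ∀ w ∈ W, w.1 ∈ L ∧ w.2.1 ∈ L ∧ w.2.2 ∈ L ∧
      mulN w.2.1 w.2.2 = mulN w.1 (mulN w.2.2 w.2.1) := by
  intro w hw
  have h1 := List.all_eq_true.1 h w hw
  simp only [Bool.and_eq_true, decide_eq_true_eq, beq_iff_eq] at h1
  exact ⟨h1.1.1.1, h1.1.1.2, h1.1.2, h1.2⟩

set_option maxRecDepth 100000 in
theorem H168_chk0 : H168.all chk0 = true := by decide +kernel

set_option maxRecDepth 100000 in
theorem H168_sorted : sortedB H168 = true := by decide +kernel

set_option maxRecDepth 100000 in
theorem H168_length : H168.length = 168 := by decide +kernel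

set_option maxRecDepth 100000 in
theorem H168_one : oneN ∈ H168 := by decide +kernel

set_option maxRecDepth 100000 in
theorem A0_closed :
    A0.all (fun a => H168.all (fun b => force (mulN a b) (memB H168))) = true := by decide +kernel

set_option maxRecDepth 100000 in
theorem A1_closed :
    A1.all (fun a => H168.all (fun b => force (mulN a b) (memB H168))) = true := by decide +kernel

set_option maxRecDepth 100000 in
theorem A2_closed :
    A2.all (fun a => H168.all (fun b => force (mulN a b) (memB H168))) = true := by decide +kernel

set_option maxRecDepth 100000 in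
theorem A3_closed :
    A3.all (fun a => H168.all (fun b => force (mulN a b) (memB H168))) = true := by decide +kernel

set_option maxRecDepth 100000 in
theorem A4_closed :
    A4.all (fun a => H168.all (fun b => force (mulN a b) (memB H168))) = true := by decide +kernel

set_option maxRecDepth 100000 in
theorem A5_closed :
    A5.all (fun a => H168.all (fun b => force (mulN a b) (memB H168))) = true := by decide +kernel

theorem all6 {p : ℕ → Bool} {A B C D E G : List ℕ} (a : A.all p = true) (b : B.all p = true)
    (c : C.all p = true) (d : D.all p = true) (e : E.all p = true) (g : G.all p = true) :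
    (A ++ B ++ C ++ D ++ E ++ G).all p = true := by
  rw [List.all_append, List.all_append, List.all_append, List.all_append, List.all_append,
    a, b, c, d, e, g]
  rfl

theorem H168_closed0 :
    H168.all (fun a => H168.all (fun b => force (mulN a b) (memB H168))) = true :=
  all6 A0_closed A1_closed A2_closed A3_closed A4_closed A5_closed

set_option maxRecDepth 100000 in
theorem W85_chk0 : W85.all (fun w => decide (w.1 ∈ H168) && decide (w.2.1 ∈ H168) &&
    decide (w.2.2 ∈ H168) && (mulN w.2.1 w.2.2 == mulN w.1 (mulN w.2.2 w.2.1))) = true := by
  decide +kernel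

set_option maxRecDepth 100000 in
theorem W85_sorted : sortedB (W85.map (fun w => w.1)) = true := by decide +kernel

set_option maxRecDepth 100000 in
theorem W85_length : W85.length = 85 := by decide +kernel

theorem H168_chk : ∀ n ∈ H168, n < 387420489 ∧ mulN (trN n) (cjN n) = oneN ∧ detN n = 1 :=
  chk0_of H168_chk0

theorem H168_closed : ∀ a ∈ H168, ∀ b ∈ H168, mulN a b ∈ H168 := closed_of H168_closed0

theorem W85_cert : ∀ w ∈ W85, w.1 ∈ H168 ∧ w.2.1 ∈ H168 ∧ w.2.2 ∈ H168 ∧
    mulN w.2.1 w.2.2 = mulN w.1 (mulN w.2.2 w.2.1) := cert_of W85_chk0

end Cfsg.Agent.Lib.Helper15.U33
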