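import Mathlib

set_option autoImplicit false

namespace Cfsg.Agent.Lib.Helper15.U33

abbrev R7 := Matrix (Fin 4) (Fin 4) (ZMod 7)

def L : Fin 24 → R7 :=
  ![!![1, 0, 0, 0; 0, 1, 0, 0; 0, 0, 1, 0; 0, 0, 0, 1],
    !![2, 0, 0, 0; 0, 4, 0, 0; 0, 0, 2, 0; 0, 0, 0, 4],
    !![0, 0, 0, 6; 1, 0, 0, 0; 0, 1, 0, 0; 0, 0, 1, 0],
    !![4, 0, 0, 0; 0, 2, 0, 0; 0, 0, 4, 0; 0, 0, 0, 2],
    !![0, 0, 0, 5; 4, 0, 0, 0; 0, 2, 0, 0; 0, 0, 4, 0],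
    !![0, 0, 0, 3; 2, 0, 0, 0; 0, 4, 0, 0; 0, 0, 2, 0],
    !![0, 0, 6, 0; 0, 0, 0, 6; 1, 0, 0, 0; 0, 1, 0, 0],
    !![0, 0, 5, 0; 0, 0, 0, 3; 2, 0, 0, 0; 0, 4, 0, 0],
    !![0, 0, 3, 0; 0, 0, 0, 5; 4, 0, 0, 0; 0, 2, 0, 0],
    !![0, 6, 0, 0; 0, 0, 6, 0; 0, 0, 0, 6; 1, 0, 0, 0],
    !![0, 5, 0, 0; 0, 0, 3, 0; 0, 0, 0, 5; 4, 0, 0, 0],
    !![0, 3, 0, 0; 0, 0, 5, 0; 0, 0, 0, 3; 2, 0, 0, 0],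
    !![6, 0, 0, 0; 0, 6, 0, 0; 0, 0, 6, 0; 0, 0, 0, 6],
    !![5, 0, 0, 0; 0, 3, 0, 0; 0, 0, 5, 0; 0, 0, 0, 3],
    !![3, 0, 0, 0; 0, 5, 0, 0; 0, 0, 3, 0; 0, 0, 0, 5],
    !![0, 0, 0, 1; 6, 0, 0, 0; 0, 6, 0, 0; 0, 0, 6, 0],
    !![0, 0, 0, 2; 3, 0, 0, 0; 0, 5, 0, 0; 0, 0, 3, 0],
    !![0, 0, 0, 4; 5, 0, 0, 0; 0, 3, 0, 0; 0, 0, 5, 0],
    !![0, 0, 1, 0; 0, 0, 0, 1; 6, 0, 0, 0; 0, 6, 0, 0],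
    !![0, 0, 2, 0; 0, 0, 0, 4; 5, 0, 0, 0; 0, 3, 0, 0],
    !![0, 0, 4, 0; 0, 0, 0, 2; 3, 0, 0, 0; 0, 5, 0, 0],
    !![0, 1, 0, 0; 0, 0, 1, 0; 0, 0, 0, 1; 6, 0, 0, 0],
    !![0, 2, 0, 0; 0, 0, 4, 0; 0, 0, 0, 2; 3, 0, 0, 0],
    !![0, 4, 0, 0; 0, 0, 2, 0; 0, 0, 0, 4; 5, 0, 0, 0]]

def T : Fin 24 → Fin 24 → Fin 24 :=
  ![![0, 1, 2, 3, 4, 5, 6, 7, 8, 9, 10, 11, 12, 13, 14, 15, 16, 17, 18, 19, 20, 21, 22, 23],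
    ![1, 3, 4, 0, 5, 2, 7, 8, 6, 10, 11, 9, 13, 14, 12, 16, 17, 15, 19, 20, 18, 22, 23, 21],
    ![2, 5, 6, 4, 8, 7, 9, 11, 10, 12, 14, 13, 15, 17, 16, 18, 20, 19, 21, 23, 22, 0, 3, 1],
    ![3, 0, 5, 1, 2, 4, 8, 6, 7, 11, 9, 10, 14, 12, 13, 17, 15, 16, 20, 18, 19, 23, 21, 22],
    ![4, 2, 7, 5, 6, 8, 10, 9, 11, 13, 12, 14, 16, 15, 17, 19, 18, 20, 22, 21, 23, 1, 0, 3],
    ![5, 4, 8, 2, 7, 6, 11, 10, 9, 14, 13, 12, 17, 16, 15, 20, 19, 18, 23, 22, 21, 3, 1, 0],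
    ![6, 7, 9, 8, 10, 11, 12, 13, 14, 15, 16, 17, 18, 19, 20, 21, 22, 23, 0, 1, 3, 2, 4, 5],
    ![7, 8, 10, 6, 11, 9, 13, 14, 12, 16, 17, 15, 19, 20, 18, 22, 23, 21, 1, 3, 0, 4, 5, 2],
    ![8, 6, 11, 7, 9, 10, 14, 12, 13, 17, 15, 16, 20, 18, 19, 23, 21, 22, 3, 0, 1, 5, 2, 4],
    ![9, 11, 12, 10, 14, 13, 15, 17, 16, 18, 20, 19, 21, 23, 22, 0, 3, 1, 2, 5, 4, 6, 8, 7],
    ![10, 9, 13, 11, 12, 14, 16, 15, 17, 19, 18, 20, 22, 21, 23, 1, 0, 3, 4, 2, 5, 7, 6, 8],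
    ![11, 10, 14, 9, 13, 12, 17, 16, 15, 20, 19, 18, 23, 22, 21, 3, 1, 0, 5, 4, 2, 8, 7, 6],
    ![12, 13, 15, 14, 16, 17, 18, 19, 20, 21, 22, 23, 0, 1, 3, 2, 4, 5, 6, 7, 8, 9, 10, 11],
    ![13, 14, 16, 12, 17, 15, 19, 20, 18, 22, 23, 21, 1, 3, 0, 4, 5, 2, 7, 8, 6, 10, 11, 9],
    ![14, 12, 17, 13, 15, 16, 20, 18, 19, 23, 21, 22, 3, 0, 1, 5, 2, 4, 8, 6, 7, 11, 9, 10],
    ![15, 17, 18, 16, 20, 19, 21, 23, 22, 0, 3, 1, 2, 5, 4, 6, 8, 7, 9, 11, 10, 12, 14, 13],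
    ![16, 15, 19, 17, 18, 20, 22, 21, 23, 1, 0, 3, 4, 2, 5, 7, 6, 8, 10, 9, 11, 13, 12, 14],
    ![17, 16, 20, 15, 19, 18, 23, 22, 21, 3, 1, 0, 5, 4, 2, 8, 7, 6, 11, 10, 9, 14, 13, 12],
    ![18, 19, 21, 20, 22, 23, 0, 1, 3, 2, 4, 5, 6, 7, 8, 9, 10, 11, 12, 13, 14, 15, 16, 17],
    ![19, 20, 22, 18, 23, 21, 1, 3, 0, 4, 5, 2, 7, 8, 6, 10, 11, 9, 13, 14, 12, 16, 17, 15],
    ![20, 18, 23, 19, 21, 22, 3, 0, 1, 5, 2, 4, 8, 6, 7, 11, 9, 10, 14, 12, 13, 17, 15, 16],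
    ![21, 23, 0, 22, 3, 1, 2, 5, 4, 6, 8, 7, 9, 11, 10, 12, 14, 13, 15, 17, 16, 18, 20, 19],
    ![22, 21, 1, 23, 0, 3, 4, 2, 5, 7, 6, 8, 10, 9, 11, 13, 12, 14, 16, 15, 17, 19, 18, 20],
    ![23, 22, 3, 21, 1, 0, 5, 4, 2, 8, 7, 6, 11, 10, 9, 14, 13, 12, 17, 16, 15, 20, 19, 18]]

set_option maxRecDepth 100000 in
theorem hT : ∀ i j : Fin 24, L i * L j = L (T i j) := by decide +kernel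

theorem hL0 : L 0 = 1 := by decide +kernel

def pw : ℕ → Fin 24 → Fin 24
  | 0, _ => 0
  | (n + 1), i => T (pw n i) i

theorem L_pw (n : ℕ) (i : Fin 24) : L i ^ n = L (pw n i) := by
  induction n with
  | zero => rw [pow_zero, pw, hL0]
  | succ n ih => rw [pow_succ, ih, hT, pw]

set_option maxRecDepth 100000 in
theorem h86 : ∀ i : Fin 24, pw 8 i = 0 ∨ pw 12 i = 0 := by decide +kernel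

set_option maxRecDepth 100000 in
theorem hinv : ∀ i : Fin 24, T i (pw 23 i) = 0 ∧ T (pw 23 i) i = 0 := by decide +kernel

set_option maxRecDepth 100000 in
theorem hsum : ∀ i : Fin 24, i ≠ 0 → (∑ j ∈ Finset.range 24, L (pw j i)) = 0 := by decide +kernel

set_option maxRecDepth 100000 in
theorem hinj : ∀ i : Fin 24, L i = 1 → i = 0 := by decide +kernel

end Cfsg.Agent.Lib.Helper15.U33
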